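import Groth.Agent.LeadBrown.Rel.FibreDual
import Groth.Agent.LeadBrown.ShriekPerfect
import Groth.Agent.LeadBrown.Independent
import Groth.Agent.H8Props.PseudoCoh.PerfectMor
import Groth.Agent.H10Coh.Support
import Groth.Agent.H17.FPExt.Colimit

/-!
# `f^!O` of a flat morphism, point by point
-/

set_option autoImplicit false
set_option linter.style.haveILetI false
set_option linter.unusedSectionVars false
set_option backward.isDefEq.respectTransparency false
set_option maxHeartbeats 1000000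

universe u

open CategoryTheory CategoryTheory.Limits AlgebraicGeometry
open Groth.Agent.H16Derived Groth.Agent.H16Derived.KFlat
open Groth.Agent.H16Derived.KFlat.Stalk (rd hasLpull)
open DerivedCategory.TStructure (t)

attribute [local instance] HasDerivedCategory.standard

namespace Groth.Agent.LeadBrown.Rel

variable [∀ (U V : Scheme.{u}) (j : U ⟶ V) [IsOpenImmersion j], PreservesFiniteLimits (Scheme.Modules.restrictFunctor j)]

variable {X Y : Scheme.{u}} [IsNoetherian X] [IsNoetherian Y] {f : X ⟶ Y} [Flat f] [LocallyOfFiniteType f]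
  (c : DEt.Compactification f) [DCoh.HasRpush c.fbar] {hc : DCoh.RpushPreservesQCoh c.fbar}
  {a : DCoh.DQCoh Y ⥤ DCoh.DQCoh c.Xbar} (adj : DCoh.RpushQ c.fbar hc ⊣ a) (O : DCoh.DQCoh Y)
  (hO : Nonempty (O.obj ≅ DCoh.inD Y (Coh.structureModule Y)))

/-- `f^!O`. -/
noncomputable abbrev shO : DCoh.D X := (rd (haveI := c.isOpenImmersion; c.j)).obj (a.obj O).obj

/-- The degrees of `f^!O` at a point. -/
def Deg (i : ℤ) (x : X) : Prop :=
  haveI := c.isOpenImmersion
  Nontrivial ((DCoh.HD ((rd c.j).obj (a.obj O).obj) i).presheaf.stalk x)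

include adj hO in
theorem exists_bounds_coh : ∃ lo hi : ℤ, (∀ x i, Deg c (a := a) O i x → lo ≤ i ∧ i ≤ hi) ∧
    (∀ i, Coh.IsCoh (DCoh.HD ((rd (haveI := c.isOpenImmersion; c.j)).obj (a.obj O).obj) i)) := by
  haveI := c.isOpenImmersion
  haveI : LocallyOfFinitePresentation f := inferInstance
  obtain ⟨eO⟩ := hO
  haveI : (DCoh.inD Y (Coh.structureModule Y)).IsGE 0 := inferInstance
  haveI : (DCoh.inD Y (Coh.structureModule Y)).IsLE 0 := inferInstance
  have h0 : O.obj.IsGE 0 := t.isGE_of_iso eO.symm 0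
  have hcoh : DCoh.IsCohD O.obj :=
    Dual.isCohD_iso eO.symm (KFlat.Stalk.isCohD_and_bounded_of_isPerfect (PnD.isPerfect_one Y)).1
  obtain ⟨lo, hi, hlo, hhi, hω⟩ := exists_bounds_shriek (H8Props.PseudoCoh.isPerfectMor_of_flat f) c adj O 0 0 h0
    (t.isLE_of_iso eO.symm 0) hcoh
  refine ⟨lo, hi, fun x i h => ?_, hω⟩
  haveI := hlo
  haveI := hhi
  by_contra hne
  have hz : IsZero (DCoh.HD ((rd c.j).obj (a.obj O).obj) i) := by
    rcases not_and_or.1 hne with h' | h'
    · exact DerivedCategory.isZero_of_isGE _ lo i (by omega)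
    · exact DerivedCategory.isZero_of_isLE _ hi i (by omega)
  haveI : Subsingleton ((DCoh.HD ((rd c.j).obj (a.obj O).obj) i).presheaf.stalk x) :=
    AddCommGrpCat.subsingleton_of_isZero ((Scheme.Modules.toPresheaf X ⋙ TopCat.Presheaf.stalkFunctor _ x).map_isZero hz)
  exact not_nontrivial _ h

theorem forall_fiber (g : X ⟶ Y) {P : ∀ y : Y, g.fiber y → Prop} (h : ∀ x : X, P (g x) (g.asFiber x)) (y : Y)
    (z : g.fiber y) : P y z := by
  have h3 : (g.fiberι y).base z ∈ Set.range (g.fiberι y).base := ⟨z, rfl⟩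
  rw [Scheme.Hom.range_fiberι] at h3
  obtain ⟨x, rfl⟩ : ∃ x : X, g x = y := ⟨_, h3⟩
  have hz : (g.fiberι (g x)).base z ∈ Set.range (g.fiberι (g x)).base := ⟨z, rfl⟩
  have key : ∀ (w : X) (y : Y) (z : g.fiber y) (hw : (g.fiberι y).base z = w), g w = y → P y z := by
    rintro w y z hw rfl
    rw [show z = g.asFiber w from (g.fiberι _).isEmbedding.injective (hw.trans (Scheme.Hom.fiberι_asFiber g w).symm)]
    exact h w
  exact key _ _ z rfl (by rw [Scheme.Hom.range_fiberι] at hz; exact hz)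

/-- The summary at a point: local dimension of the fibre, range, the special generisation. -/
structure AtPoint (x : X) where
  n : ℕ
  dim : FlatMor.localDim (f.fiber (f x)) (f.asFiber x) = n
  range : ∀ i, Deg c (a := a) O i x → -(n : ℤ) ≤ i ∧ i ≤ 0
  gen : ∃ η : X, η ⤳ x ∧ f η = f x ∧ Deg c (a := a) O (-(n : ℤ)) η
  cm_single : MoreMor.IsCMAt f x → ∀ i, Deg c (a := a) O i x ↔ i = -(n : ℤ)
  single_cm : (∀ i, i ≠ -(n : ℤ) → ¬ Deg c (a := a) O i x) → MoreMor.IsCMAt f x

include adj hO in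
theorem nonempty_atPoint (x : X) : Nonempty (AtPoint c (a := a) O x) := by
  classical
  haveI := c.isOpenImmersion
  haveI : ∀ (R : CommRingCat.{u}), PreservesFiniteLimits (tilde.functor R) := inferInstance
  haveI : LocallyOfFinitePresentation f := inferInstance
  haveI : ∀ y : Y, DCoh.HasLpull (f.fiberι y) := fun y => hasLpull _
  have hf := H8Props.PseudoCoh.isPerfectMor_of_flat f
  let K : DCoh.D X := (rd c.j).obj (a.obj O).obj
  have hq : DCoh.IsQCohD K := QCohD.isQCohD_rd c.j (a.obj O).property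
  have hpc := (relPerfect_shriek hf c adj O hO).1
  obtain ⟨eO⟩ := hO
  obtain ⟨n, hn, hrange, hlow, ⟨η, hη, hηS⟩, hCM⟩ := fibre_degrees hf c adj O eO (f x) (f.asFiber x)
  have hx : (f.fiberι (f x)).base (f.asFiber x) = x := Scheme.Hom.fiberι_asFiber f x
  -- from the fibre to `X`
  have down : ∀ (z : f.fiber (f x)) (i : ℤ), Deg c (a := a) O i ((f.fiberι (f x)).base z) →
      Nontrivial ((DCoh.HD ((DCoh.Lpull (f.fiberι (f x))).obj K) i).presheaf.stalk z) := fun z i h => by
    by_contra h'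
    exact not_nontrivial_of_fibre hq hpc z i h' h
  have up : ∀ (z : f.fiber (f x)) (i : ℤ),
      Nontrivial ((DCoh.HD ((DCoh.Lpull (f.fiberι (f x))).obj K) i).presheaf.stalk z) →
      ∃ j, i ≤ j ∧ Deg c (a := a) O j ((f.fiberι (f x)).base z) := fun z i h => by
    by_contra h'
    exact not_nontrivial_fibre_of_above hq hpc z i (fun j hj hd => h' ⟨j, hj, hd⟩) h
  have range : ∀ i, Deg c (a := a) O i x → -(n : ℤ) ≤ i ∧ i ≤ 0 := fun i hi =>
    hrange i (down _ i (by rw [hx]; exact hi))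
  have hηdeg : Deg c (a := a) O (-(n : ℤ)) ((f.fiberι (f x)).base η) := by
    obtain ⟨j, hj, hd⟩ := up η _ ((hηS _).2 rfl)
    rwa [← (hηS j).1 (down η j hd)]
  have hfl : (f.stalkMap x).hom.Flat := Flat.stalkMap f x
  refine ⟨{ n := n, dim := hn, range := range, gen := ⟨_, ?_, ?_, hηdeg⟩, cm_single := ?_, single_cm := ?_ }⟩
  · have := hη.map (f.fiberι (f x)).continuous
    rwa [hx] at this
  · have h2 : (f.fiberι (f x)).base η ∈ Set.range (f.fiberι (f x)).base := ⟨η, rfl⟩
    rw [Scheme.Hom.range_fiberι] at h2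
    exact h2
  · intro hcm i
    have h1 : ∀ j, Deg c (a := a) O j x → j = -(n : ℤ) := fun j hj =>
      (hCM.1 hcm.2) j _ (down _ j (by rw [hx]; exact hj)) hlow
    refine ⟨h1 i, fun hi => ?_⟩
    obtain ⟨j, -, hd⟩ := up _ _ hlow
    rw [hx] at hd
    rwa [hi, ← h1 j hd]
  · intro h1
    refine ⟨hfl, hCM.2 ?_⟩
    -- every degree of the fibre is the bottom one
    suffices H : ∀ i, Nontrivial ((DCoh.HD ((DCoh.Lpull (f.fiberι (f x))).obj K) i).presheaf.stalk (f.asFiber x)) →
        i = -(n : ℤ) from fun i j hi hj => (H i hi).trans (H j hj).symm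
    intro i hi
    obtain ⟨j, hij, hd⟩ := up _ i hi
    rw [hx] at hd
    have hj : j = -(n : ℤ) := by by_contra hne; exact h1 j hne hd
    have := (hrange i hi).1
    omega

include adj hO in
/-- Cohen–Macaulay at `x` iff one degree near `x`. -/
theorem isCMAt_iff (x : X) : MoreMor.IsCMAt f x ↔
    ∃ (U : X.Opens) (n : ℤ), x ∈ U ∧
      (∀ i : ℤ, i ≠ n → IsZero ((DCoh.HD ((rd (haveI := c.isOpenImmersion; c.j)).obj (a.obj O).obj) i).restrict U.ι)) ∧
      ¬ IsZero ((DCoh.HD ((rd (haveI := c.isOpenImmersion; c.j)).obj (a.obj O).obj) n).restrict U.ι) := by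
  classical
  haveI := c.isOpenImmersion
  let H : ℤ → X.Modules := fun i => DCoh.HD ((rd c.j).obj (a.obj O).obj) i
  obtain ⟨P⟩ := nonempty_atPoint c adj O hO x
  have hstalk : ∀ (U : X.Opens) (i : ℤ) (y : X) (hy : y ∈ U), IsZero ((H i).restrict U.ι) →
      ¬ Deg c (a := a) O i y := fun U i y hy hz h => by
    haveI : Subsingleton (((H i).restrict U.ι).presheaf.stalk ⟨y, hy⟩) :=
      AddCommGrpCat.subsingleton_of_isZero
        ((Scheme.Modules.toPresheaf (U : Scheme.{u}) ⋙ TopCat.Presheaf.stalkFunctor AddCommGrpCat.{u} (⟨y, hy⟩ : U)).map_isZero hz)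
    exact not_nontrivial _ ((H4DualSch.nontrivial_stalk_restrict_iff U.ι (H i) ⟨y, hy⟩).2 h)
  constructor
  · intro hcm
    obtain ⟨lo, hi, hb, hcoh⟩ := exists_bounds_coh c adj O hO
    let U : X.Opens := ⟨(⋃ i ∈ (Finset.Icc lo hi).filter (fun i => i ≠ -(P.n : ℤ)), CohB1.support (H i))ᶜ,
      ((Finset.finite_toSet _).isClosed_biUnion fun i _ => H10Coh.isClosed_support (H i) (hcoh i).2).isOpen_compl⟩
    have hxU : x ∈ U := fun hx => by
      obtain ⟨i, hi', hs⟩ := Set.mem_iUnion₂.1 hx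
      exact (Finset.mem_filter.1 hi').2 ((P.cm_single hcm i).1 (not_subsingleton_iff_nontrivial.1 hs))
    refine ⟨U, -(P.n : ℤ), hxU, fun i hi => H17.FPExt.isZero_of_stalk _ fun w => ?_,
      fun hz => hstalk U _ x hxU hz ((P.cm_single hcm _).2 rfl)⟩
    refine not_nontrivial_iff_subsingleton.1 fun hw => ?_
    have hd := (H4DualSch.nontrivial_stalk_restrict_iff U.ι (H i) w).1 hw
    exact w.2 (Set.mem_iUnion₂.2 ⟨i, Finset.mem_filter.2 ⟨Finset.mem_Icc.2 (hb _ i hd), hi⟩,
      not_subsingleton_iff_nontrivial.2 hd⟩)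
  · rintro ⟨U, n, hxU, hz, -⟩
    obtain ⟨η, hη, -, hd⟩ := P.gen
    have hn : -(P.n : ℤ) = n := by
      by_contra hne
      exact hstalk U _ η (hη.mem_open U.2 hxU) (hz _ hne) hd
    exact P.single_cm fun i hi => hstalk U i x hxU (hz i (hn ▸ hi))

include adj hO in
/-- Cohen–Macaulay everywhere with constant fibre dimension: one coherent flat sheaf. -/
theorem concentrated (hCM : ∀ x, MoreMor.IsCMAt f x) (d : ℕ)
    (hd : ∀ x, FlatMor.localDim (f.fiber (f x)) (f.asFiber x) = (d : WithBot ℕ∞)) :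
    (∀ i : ℤ, i ≠ -(d : ℤ) → IsZero (DCoh.HD ((rd (haveI := c.isOpenImmersion; c.j)).obj (a.obj O).obj) i)) ∧
      Coh.IsCoh (DCoh.HD ((rd (haveI := c.isOpenImmersion; c.j)).obj (a.obj O).obj) (-(d : ℤ))) ∧
      FlatMod.IsFlatOver f (DCoh.HD ((rd (haveI := c.isOpenImmersion; c.j)).obj (a.obj O).obj) (-(d : ℤ))) := by
  haveI := c.isOpenImmersion
  haveI : ∀ (R : CommRingCat.{u}), PreservesFiniteLimits (tilde.functor R) := inferInstance
  haveI : LocallyOfFinitePresentation f := inferInstance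
  haveI : ∀ y : Y, DCoh.HasLpull (f.fiberι y) := fun y => hasLpull _
  have hf := H8Props.PseudoCoh.isPerfectMor_of_flat f
  obtain ⟨lo, hi, hb, hcoh⟩ := exists_bounds_coh c adj O hO
  refine ⟨fun i hi => H17.FPExt.isZero_of_stalk _ fun x => not_nontrivial_iff_subsingleton.1 fun h => ?_, hcoh _, ?_⟩
  · obtain ⟨P⟩ := nonempty_atPoint c adj O hO x
    have hn : P.n = d := by exact_mod_cast P.dim.symm.trans (hd x)
    exact hi (hn ▸ (P.cm_single (hCM x) i).1 h)
  · have hpc := (relPerfect_shriek hf c adj O hO).1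
    obtain ⟨eO⟩ := hO
    refine isFlatOver_hd (QCohD.isQCohD_rd c.j (a.obj O).property) hpc _ fun y z => ?_
    revert y z
    refine forall_fiber f fun x j hj hne => ?_
    obtain ⟨n, hn, hrange, hlow, -, hiff⟩ := fibre_degrees hf c adj O eO (f x) (f.asFiber x)
    have hnd : n = d := by exact_mod_cast hn.symm.trans (hd x)
    exact hj (hnd ▸ hiff.1 (hCM x).2 j _ hne hlow)

end Groth.Agent.LeadBrown.Rel
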