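import Groth.Agent.LeadBrown.Rel.FreeGen
import Groth.Agent.LeadBrown.Rel.Main
import Groth.Agent.LeadBrown.CanonicalNormal
import Groth.Agent.H4RSH.Gorenstein
import Groth.Agent.H16Derived.RelTensor.Chart

/-!
# Gorenstein morphisms and invertibility of `f^!O`
-/

set_option autoImplicit false
set_option linter.style.haveILetI false
set_option linter.unusedSectionVars false
set_option backward.isDefEq.respectTransparency false
set_option maxHeartbeats 1600000

universe u

open CategoryTheory CategoryTheory.Limits AlgebraicGeometry TensorProduct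
open Groth.Agent.H16Derived Groth.Agent.H16Derived.KFlat
open Groth.Agent.H16Derived.KFlat.Stalk (rd rdComp hasLpull)
open Groth.Agent.H4DR.Dualizing (Loc loc)
open Groth.Agent.H4DR.FlatBC (hBC)

attribute [local instance] HasDerivedCategory.standard

namespace Groth.Agent.LeadBrown.Rel

variable [∀ (U V : Scheme.{u}) (j : U ⟶ V) [IsOpenImmersion j], PreservesFiniteLimits (Scheme.Modules.restrictFunctor j)]
  [∀ (R : CommRingCat.{u}), PreservesFiniteLimits (tilde.functor R)]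

variable {X Y : Scheme.{u}} [IsNoetherian X] [IsNoetherian Y] {f : X ⟶ Y} [Flat f] [LocallyOfFinitePresentation f]
  (hf : MoreMor.IsPerfectMor f)
  (c : DEt.Compactification f) [DCoh.HasRpush c.fbar] {hc : DCoh.RpushPreservesQCoh c.fbar}
  {a : DCoh.DQCoh Y ⥤ DCoh.DQCoh c.Xbar} (adj : DCoh.RpushQ c.fbar hc ⊣ a) (O : DCoh.DQCoh Y)
  (eO : O.obj ≅ DCoh.inD Y (Coh.structureModule Y)) [∀ y : Y, DCoh.HasLpull (f.fiberι y)]

include adj eO hf in
/-- The fibre of `f^!O` is dualizing. -/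
theorem isDualizingSch_fibre (y : Y) :
    Dual2.IsDualizingSch (f.fiber y) ((DCoh.Lpull (f.fiberι y)).obj
      (haveI := c.isOpenImmersion; (rd c.j).obj (a.obj O).obj)) := by
  haveI : LocallyOfFiniteType (f.fiberToSpecResidueField y) :=
    inferInstanceAs (LocallyOfFiniteType (pullback.snd f (Y.fromSpecResidueField y)))
  haveI : IsLocallyNoetherian (f.fiber y) :=
    LocallyOfFiniteType.isLocallyNoetherian (f.fiberToSpecResidueField y)
  haveI : QuasiCompact f := quasiCompact_of_compactSpace f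
  haveI : CompactSpace (f.fiber y) := inferInstance
  refine LeadBrown.isDualizingSch_of_cover _ fun z => ?_
  obtain ⟨A, i, e, he, ω, hω, hz, -, h⟩ := exists_fibre_chart hf c adj O eO y z
  exact ⟨A, i, e, he, hz, ω, hω, h⟩

include adj eO hf in
/-- Invertible near `x` gives Gorenstein at `x`. -/
theorem isGorensteinAt_of_unit {x : X} {V : Scheme.{u}} (j : V ⟶ X) [IsOpenImmersion j] (hx : x ∈ Set.range j.base)
    (n : ℤ) (e : (rd j).obj (haveI := c.isOpenImmersion; (rd c.j).obj (a.obj O).obj) ≅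
      (DCoh.inD V (Coh.structureModule V))⟦n⟧) :
    Dual3.IsGorensteinAt f x := by
  refine ⟨Flat.stalkMap f x, ?_⟩
  let y := f x
  haveI : LocallyOfFiniteType (f.fiberToSpecResidueField y) :=
    inferInstanceAs (LocallyOfFiniteType (pullback.snd f (Y.fromSpecResidueField y)))
  haveI : IsLocallyNoetherian (f.fiber y) :=
    LocallyOfFiniteType.isLocallyNoetherian (f.fiberToSpecResidueField y)
  let Z := pullback j (f.fiberι y)
  let jU : Z ⟶ f.fiber y := pullback.snd j (f.fiberι y)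
  let g : Z ⟶ V := pullback.fst j (f.fiberι y)
  haveI : IsOpenImmersion jU := inferInstanceAs (IsOpenImmersion (pullback.snd j (f.fiberι y)))
  haveI : IsLocallyNoetherian Z := isLocallyNoetherian_of_isOpenImmersion jU
  haveI := hasLpull g
  obtain ⟨e₁⟩ := QCohD.lpull_factor (f.fiberι y) jU g j pullback.condition
    (haveI := c.isOpenImmersion; (rd c.j).obj (a.obj O).obj)
  obtain ⟨e₂⟩ := RelTensor.nonempty_lpull_one g n
  have hK := LeadBrown.isDualizingSch_of_open jU (isDualizingSch_fibre hf c adj O eO y)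
  have hinv : Dual3.IsInvertibleD ((rd jU).obj ((DCoh.Lpull (f.fiberι y)).obj
      (haveI := c.isOpenImmersion; (rd c.j).obj (a.obj O).obj))) := by
    refine H4RSH.isInvertibleD_of_isLocUnit fun w => ⟨Z, 𝟙 Z, inferInstance, n, ⟨w, rfl⟩, ⟨?_⟩⟩
    exact (rd (𝟙 Z)).mapIso (e₁ ≪≫ (DCoh.Lpull g).mapIso e ≪≫ e₂) ≪≫ ((rd (𝟙 Z)).commShiftIso n).app _ ≪≫
      (shiftFunctor _ n).mapIso (((Scheme.Modules.restrictFunctor (𝟙 Z)).mapDerivedCategorySingleFunctor 0).app _ ≪≫
        (DerivedCategory.singleFunctor _ 0).mapIso (Scheme.Modules.restrictUnitIso (𝟙 Z)))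
  obtain ⟨w, hw⟩ : f.asFiber x ∈ Set.range jU.base := by
    show f.asFiber x ∈ Set.range (pullback.snd j (f.fiberι y)).base
    rw [Scheme.Pullback.range_snd]
    show (f.fiberι y).base (f.asFiber x) ∈ Set.range j.base
    rw [Scheme.Hom.fiberι_asFiber]
    exact hx
  have h := H4RSH.gorenstein_of_invertible hK hinv w
  show LocCoh.IsGorensteinLocalRing ((f.fiber y).presheaf.stalk (f.asFiber x))
  rw [← hw]
  exact (Groth.Agent.H02CA.GorFlat.gor_iff_of_ringEquiv (asIso (jU.stalkMap w)).commRingCatIsoToRingEquiv).2 h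

include adj eO hf in
/-- Gorenstein at `x` gives a chart where `f^!O` is the shifted unit. -/
theorem exists_unit_of_isGorensteinAt {x : X} (h : Dual3.IsGorensteinAt f x) :
    ∃ (U : Scheme.{u}) (l : U ⟶ X) (_ : IsOpenImmersion l) (m : ℤ), x ∈ Set.range l.base ∧
      Nonempty ((rd l).obj (haveI := c.isOpenImmersion; (rd c.j).obj (a.obj O).obj) ≅
        (DCoh.inD U (Coh.structureModule U))⟦m⟧) := by
  classical
  haveI := c.isOpenImmersion
  let K : DCoh.D X := (rd c.j).obj (a.obj O).obj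
  have hq : DCoh.IsQCohD K := QCohD.isQCohD_rd c.j (a.obj O).property
  have hpc : ∀ m : ℤ, DCoh.IsPseudoCoherentD m K := (relPerfect_shriek hf c adj O ⟨eO⟩).1
  obtain ⟨lo, hi, hb, hcoh⟩ := exists_bounds_coh c adj O ⟨eO⟩
  obtain ⟨ch, hx⟩ := exists_chart (f := f) hq hpc x
  -- the fibre in the chart
  let y := f x
  let z : f.fiber y := f.asFiber x
  have hzx : (f.fiberι y).base z = x := Scheme.Hom.fiberι_asFiber f x
  have hz : (f.fiberι y).base z ∈ ch.W := by rw [hzx]; exact hx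
  have hy : y ∈ ch.V := chart_mem ch z hz
  letI := (f.appLE ch.V ch.W ch.e).hom.toAlgebra
  letI := (Y.evaluation ch.V y hy).hom.toAlgebra
  haveI : IsNoetherianRing Γ(Y, ch.V) := IsLocallyNoetherian.component_noetherian ⟨ch.V, ch.hV⟩
  haveI : IsNoetherianRing Γ(X, ch.W) := IsLocallyNoetherian.component_noetherian ⟨ch.W, ch.hW⟩
  haveI : Module.Flat Γ(Y, ch.V) Γ(X, ch.W) :=
    HasRingHomProperty.appLE (P := @Flat) f inferInstance ⟨ch.V, ch.hV⟩ ⟨ch.W, ch.hW⟩ ch.e
  haveI : LocallyOfFiniteType (f.fiberToSpecResidueField y) :=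
    inferInstanceAs (LocallyOfFiniteType (pullback.snd f (Y.fromSpecResidueField y)))
  haveI : IsLocallyNoetherian (f.fiber y) :=
    LocallyOfFiniteType.isLocallyNoetherian (f.fiberToSpecResidueField y)
  obtain ⟨j, hj, hr, hw⟩ := H7Flat.FibreChart.exists_fibreChart f ch.hV ch.hW ch.e y hy
  haveI := hj
  obtain ⟨Q, hQz⟩ : z ∈ Set.range j := by rw [hr]; exact hz
  let C := Γ(X, ch.W) ⊗[Γ(Y, ch.V)] Y.residueField y
  let φ : Γ(X, ch.W) →+* C := algebraMap Γ(X, ch.W) C
  haveI : IsNoetherianRing C :=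
    isLocallyNoetherian_Spec.1 (isLocallyNoetherian_of_isOpenImmersion j)
  have hQ : Q.asIdeal.comap φ = (ch.pt _ hz).asIdeal := by
    have h1 : ch.hW.fromSpec (PrimeSpectrum.comap φ Q) = (f.fiberι y).base z := by
      rw [← hQz]; exact congr($(hw.symm).base Q)
    have h2 : PrimeSpectrum.comap φ Q = ch.pt _ hz :=
      ch.hW.fromSpec.isOpenEmbedding.injective (h1.trans (ch.hW.fromSpec_primeIdealOf ⟨_, hz⟩).symm)
    exact congrArg PrimeSpectrum.asIdeal h2
  obtain ⟨hp, hiff⟩ := ch.exI_iff z hz hy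
  -- the fibre complex is dualizing
  have hflatP : KFlat.IsKFlat (H4DR.KFlatMod.bi Γ(X, ch.W)) ch.P :=
    H4DR.TorAmp.isKFlat_of_flat ch.vanish fun l => haveI := (ch.free l).2; inferInstance
  haveI := hasLpull (Spec.map (CommRingCat.ofHom φ))
  haveI := H4DR.TorAmp.hasLBaseChange φ
  obtain ⟨e₀⟩ := QCohD.lpull_factor (f.fiberι y) j (Spec.map (CommRingCat.ofHom φ)) ch.hW.fromSpec hw.symm K
  let eC : (rd j).obj ((DCoh.Lpull (f.fiberι y)).obj K) ≅
      (DCoh.tildeD (CommRingCat.of C)).obj (DRing.toD (fibreCx (Y.residueField y) ch.P)) :=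
    e₀ ≪≫ (DCoh.Lpull _).mapIso ch.iso ≪≫ ((QCohD.lpullTildeIso φ).app (DRing.toD ch.P)).symm ≪≫
      (DCoh.tildeD _).mapIso (H4DR.TorAmp.lbaseObj φ ch.P hflatP)
  obtain ⟨ω, hω, ⟨eω⟩⟩ := isDualizingSch_fibre hf c adj O eO y C j
  haveI := (QCohD.full_faithful (CommRingCat.of C)).1
  haveI := (QCohD.full_faithful (CommRingCat.of C)).2
  have hF : Dual.IsDualizing C (DRing.toD (fibreCx (Y.residueField y) ch.P)) :=
    H4DR.Dualizing.isDualizing_of_iso ((DCoh.tildeD (CommRingCat.of C)).preimageIso (eω.symm ≪≫ eC)) hω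
  haveI := IsLocalization.flat (Loc Q) Q.asIdeal.primeCompl
  haveI : IsNoetherianRing (Loc Q) := IsLocalization.isNoetherianRing Q.asIdeal.primeCompl (Loc Q) ‹_›
  have hG : LocCoh.IsGorensteinLocalRing (Localization.AtPrime Q.asIdeal) := by
    refine (H4RSH.gor_stalk_iff (X := f.fiber y) j Q).1 ?_
    rw [hQz]
    exact h.2
  obtain ⟨n, hn, ⟨en⟩⟩ := (H4DR.Dualizing.gorenstein_iff (H4DR.Dualizing.isDualizing_loc hF Q)).1 hG
  have hne : ∀ i, i ≠ n → ExI Γ(Y, ch.V) ch.P i (ch.pt _ hz).asIdeal (Y.residueField y) := fun i hi => by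
    refine (notMem_support_fibre_iff (isFrac_evaluation ch.hV y hy) ch.P i Q _ hQ).1 ?_
    haveI := hn i hi
    haveI : Subsingleton (Loc Q ⊗[C] Dual.HD C (DRing.toD (fibreCx (Y.residueField y) ch.P)) i) :=
      (hBC (Loc Q) i _).symm.injective.subsingleton
    refine Module.notMem_support_iff.2 ?_
    exact ((IsLocalizedModule.linearEquiv Q.asIdeal.primeCompl
      (LocalizedModule.mkLinearMap Q.asIdeal.primeCompl _)
      (TensorProduct.mk C (Loc Q) _ 1)).toEquiv.subsingleton)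
  obtain ⟨g₀, hg₀⟩ := exists_isGen (fibreCx (Y.residueField y) ch.P) n Q ((hBC (Loc Q) n _).symm.trans en)
  obtain ⟨g₁, hg₁⟩ := exists_isGen_of_fibre (isFrac_evaluation ch.hV y hy) ch.free (ch.pt _ hz) hp Q hQ n hne g₀ hg₀
  have hfin : ∀ i : ℤ, Module.Finite Γ(X, ch.W) (Dual.HD Γ(X, ch.W) (DRing.toD ch.P) i) := fun i => by
    haveI := (ch.free i).1
    obtain ⟨eH⟩ := nonempty_homology_equiv ch.P i
    exact Module.Finite.equiv eH.symm
  have hbd : ∃ p q : ℤ, ∀ i, i < p ∨ q < i → Subsingleton (Dual.HD Γ(X, ch.W) (DRing.toD ch.P) i) := by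
    refine ⟨lo, hi, fun i hi' => ?_⟩
    by_contra hne'
    haveI := not_subsingleton_iff_nontrivial.1 hne'
    obtain ⟨s, hs⟩ := Module.nonempty_support_of_nontrivial (R := Γ(X, ch.W))
      (M := Dual.HD Γ(X, ch.W) (DRing.toD ch.P) i)
    have h1 := (H4DualSch.nontrivial_stalk_HD_iff ch.hW.fromSpec K (DRing.toD ch.P) ch.iso s i).2 hs
    have := hb _ i h1
    omega
  have h0 : ∀ i, i ≠ n → Subsingleton (Loc (ch.pt _ hz) ⊗[Γ(X, ch.W)] Dual.HD Γ(X, ch.W) (DRing.toD ch.P) i) :=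
      fun i hi => by
    have h1 := notMem_support_of_fibre (isFrac_evaluation ch.hV y hy) ch.free _ hp i (hne i hi)
    haveI := Module.notMem_support_iff.1 h1
    exact ((IsLocalizedModule.linearEquiv (ch.pt _ hz).asIdeal.primeCompl
      (TensorProduct.mk Γ(X, ch.W) (Loc (ch.pt _ hz)) _ 1)
      (LocalizedModule.mkLinearMap (ch.pt _ hz).asIdeal.primeCompl _)).toEquiv.subsingleton)
  obtain ⟨U, l, hl, m, hm, hiso⟩ := H4RSH.exists_chart_unit (E := K) ch.hW.fromSpec (DRing.toD ch.P) ch.iso hfin hbd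
    (ch.pt _ hz) n h0 hg₁.nonempty_equiv
  refine ⟨U, l, hl, m, ?_, hiso⟩
  have h2 : ch.hW.fromSpec (ch.pt _ hz) = x := (ch.hW.fromSpec_primeIdealOf ⟨_, hz⟩).trans hzx
  rwa [h2] at hm

end Groth.Agent.LeadBrown.Rel
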