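import Groth.Agent.LeadBrown.Rel.Link
import Groth.Agent.H4RSH.GorensteinMor
import Groth.Agent.H7Flat.FibreChart
import Groth.Agent.H16Derived.KFlat.PerfSummand
import Groth.Agent.H8Props.ModuleModel.Sheaf
import Groth.Agent.H06EGA11c.StagePoint
import Groth.Agent.H16Derived.TorTest.RelFlatRel
import Groth.Agent.H4DR.PCoh.Stage

/-!
# Cohomology at a point and on the fibre through it, for a flat morphism
-/

set_option autoImplicit false
set_option linter.style.haveILetI false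
set_option linter.unusedSectionVars false
set_option backward.isDefEq.respectTransparency false
set_option maxHeartbeats 1000000

universe u

open CategoryTheory CategoryTheory.Limits AlgebraicGeometry TensorProduct
open Groth.Agent.H16Derived Groth.Agent.H16Derived.KFlat
open Groth.Agent.H16Derived.KFlat.Stalk (rd hasLpull)

attribute [local instance] HasDerivedCategory.standard

namespace Groth.Agent.LeadBrown.Rel

variable [∀ (U V : Scheme.{u}) (j : U ⟶ V) [IsOpenImmersion j], PreservesFiniteLimits (Scheme.Modules.restrictFunctor j)]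
  [∀ (R : CommRingCat.{u}), PreservesFiniteLimits (tilde.functor R)]

variable {X Y : Scheme.{u}} [IsLocallyNoetherian X] [IsLocallyNoetherian Y] (f : X ⟶ Y) [Flat f]
  (K : DCoh.D X)

/-- A chart where `K` is a bounded-above complex of finite free modules. -/
structure Chart where
  V : Y.Opens
  hV : IsAffineOpen V
  W : X.Opens
  hW : IsAffineOpen W
  e : W ≤ f ⁻¹ᵁ V
  P : DRing.Cx Γ(X, W)
  b : ℤ
  vanish : DRing.VanishesAbove P b
  free : DRing.TermwiseFiniteFree P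
  iso : (rd hW.fromSpec).obj K ≅ (DCoh.tildeD (CommRingCat.of Γ(X, W))).obj (DRing.toD P)

variable {f K}

theorem exists_chart (hq : DCoh.IsQCohD K) (hpc : ∀ m : ℤ, DCoh.IsPseudoCoherentD m K) (x : X) :
    ∃ c : Chart f K, x ∈ c.W := by
  obtain ⟨V, hV, hxV, -⟩ := exists_isAffineOpen_mem_and_subset (x := f x) (U := (⊤ : Y.Opens)) trivial
  obtain ⟨W, hW, hxW, hle⟩ := exists_isAffineOpen_mem_and_subset (x := x) (U := f ⁻¹ᵁ V) hxV
  obtain ⟨ω, ⟨eω⟩⟩ := QCohD.exists_tildeD_iso (R := CommRingCat.of Γ(X, W)) (QCohD.isQCohD_rd hW.fromSpec hq)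
  obtain ⟨P, b, hb, hF, ⟨eP⟩⟩ := H4DR.PCoh.pc'_of_forall (K := ω) fun m =>
    (Stalk.pc_tilde_iff ω m).1 (Stalk.isPseudoCoherentD_of_iso eω.symm (Stalk.isPseudoCoherentD_rd hW.fromSpec (hpc m)))
  exact ⟨⟨V, hV, W, hW, hle, P, b, hb, hF, eω.symm ≪≫ (DCoh.tildeD _).mapIso eP.symm⟩, hxW⟩

theorem isFrac_evaluation {V : Y.Opens} (hV : IsAffineOpen V) (y : Y) (hy : y ∈ V) :
    letI := (Y.evaluation V y hy).hom.toAlgebra
    IsFrac Γ(Y, V) (Y.residueField y) := by
  letI := (Y.evaluation V y hy).hom.toAlgebra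
  letI : Algebra Γ(Y, V) (Y.presheaf.stalk y) := (Y.presheaf.germ V y hy).hom.toAlgebra
  haveI : IsLocalization.AtPrime (Y.presheaf.stalk y) (hV.primeIdealOf ⟨y, hy⟩).asIdeal :=
    hV.isLocalization_stalk ⟨y, hy⟩
  intro c
  obtain ⟨z, rfl⟩ := Y.residue_surjective y c
  obtain ⟨⟨n, a⟩, e⟩ := IsLocalization.surj (hV.primeIdealOf ⟨y, hy⟩).asIdeal.primeCompl z
  have hu : IsUnit ((Y.presheaf.germ V y hy).hom a.1) :=
    IsLocalization.map_units (Y.presheaf.stalk y) a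
  refine ⟨a.1, (hu.map (Y.residue y).hom).ne_zero, n, ?_⟩
  rw [Algebra.smul_def]
  show (Y.residue y).hom ((Y.presheaf.germ V y hy).hom a.1) * (Y.residue y).hom z =
    (Y.residue y).hom ((Y.presheaf.germ V y hy).hom n)
  rw [← map_mul, mul_comm]
  exact congrArg (Y.residue y).hom e

/-- The prime of a point of a chart. -/
noncomputable abbrev Chart.pt (c : Chart f K) (x : X) (hx : x ∈ c.W) : PrimeSpectrum Γ(X, c.W) :=
  c.hW.primeIdealOf ⟨x, hx⟩

theorem Chart.nontrivial_iff (c : Chart f K) (x : X) (hx : x ∈ c.W) (i : ℤ) :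
    Nontrivial ((DCoh.HD K i).presheaf.stalk x) ↔
      c.pt x hx ∈ Module.support Γ(X, c.W) (Dual.HD Γ(X, c.W) (DRing.toD c.P) i) := by
  have h := H4DualSch.nontrivial_stalk_HD_iff c.hW.fromSpec K (DRing.toD c.P) c.iso (c.pt x hx) i
  rwa [c.hW.fromSpec_primeIdealOf ⟨x, hx⟩] at h

variable [∀ y : Y, DCoh.HasLpull (f.fiberι y)]

/-- The fibre in a chart. -/
theorem Chart.exI_iff (c : Chart f K) {y : Y} (z : f.fiber y) (hz : (f.fiberι y).base z ∈ c.W) (hy : y ∈ c.V) :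
    letI := (f.appLE c.V c.W c.e).hom.toAlgebra
    letI := (Y.evaluation c.V y hy).hom.toAlgebra
    (c.pt _ hz).asIdeal.comap (algebraMap Γ(Y, c.V) Γ(X, c.W)) =
        RingHom.ker (algebraMap Γ(Y, c.V) (Y.residueField y)) ∧
      ∀ i : ℤ, (¬ Nontrivial ((DCoh.HD ((DCoh.Lpull (f.fiberι y)).obj K) i).presheaf.stalk z) ↔
        ExI Γ(Y, c.V) c.P i (c.pt _ hz).asIdeal (Y.residueField y)) := by
  letI := (f.appLE c.V c.W c.e).hom.toAlgebra
  letI := (Y.evaluation c.V y hy).hom.toAlgebra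
  obtain ⟨j, hj, hr, hw⟩ := H7Flat.FibreChart.exists_fibreChart f c.hV c.hW c.e y hy
  haveI := hj
  obtain ⟨Q, hQz⟩ : z ∈ Set.range j := by rw [hr]; exact hz
  let C := Γ(X, c.W) ⊗[Γ(Y, c.V)] Y.residueField y
  let φ : Γ(X, c.W) →+* C := algebraMap Γ(X, c.W) C
  have hQ : Q.asIdeal.comap φ = (c.pt _ hz).asIdeal := by
    have h1 : c.hW.fromSpec (PrimeSpectrum.comap φ Q) = (f.fiberι y).base z := by
      rw [← hQz]; exact congr($(hw.symm).base Q)
    have h2 : PrimeSpectrum.comap φ Q = c.pt _ hz :=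
      c.hW.fromSpec.isOpenEmbedding.injective (h1.trans (c.hW.fromSpec_primeIdealOf ⟨_, hz⟩).symm)
    exact congrArg PrimeSpectrum.asIdeal h2
  refine ⟨?_, fun i => ?_⟩
  · rw [← hQ, Ideal.comap_comap, ← IsScalarTower.algebraMap_eq]
    ext a
    rw [Ideal.mem_comap, RingHom.mem_ker, IsScalarTower.algebraMap_apply Γ(Y, c.V) Γ(X, c.W) C]
    have h3 : algebraMap Γ(Y, c.V) C a =
        (Algebra.TensorProduct.includeRight : Y.residueField y →ₐ[Γ(Y, c.V)] C) (algebraMap _ _ a) :=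
      (AlgHom.commutes _ a).symm
    rw [← IsScalarTower.algebraMap_apply Γ(Y, c.V) Γ(X, c.W) C, h3]
    refine ⟨fun h => ?_, fun h => by rw [h, map_zero]; exact Ideal.zero_mem _⟩
    by_contra hne
    exact Q.2.ne_top (Ideal.eq_top_of_isUnit_mem _ h ((isUnit_iff_ne_zero.2 hne).map _))
  · have hflatP : KFlat.IsKFlat (H4DR.KFlatMod.bi Γ(X, c.W)) c.P :=
      H4DR.TorAmp.isKFlat_of_flat c.vanish fun l => haveI := (c.free l).2; inferInstance
    haveI := hasLpull (Spec.map (CommRingCat.ofHom φ))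
    haveI := H4DR.TorAmp.hasLBaseChange φ
    obtain ⟨a⟩ := QCohD.lpull_factor (f.fiberι y) j (Spec.map (CommRingCat.ofHom φ)) c.hW.fromSpec hw.symm K
    let eC : (rd j).obj ((DCoh.Lpull (f.fiberι y)).obj K) ≅
        (DCoh.tildeD (CommRingCat.of C)).obj (DRing.toD (fibreCx (Y.residueField y) c.P)) :=
      a ≪≫ (DCoh.Lpull _).mapIso c.iso ≪≫ ((QCohD.lpullTildeIso φ).app (DRing.toD c.P)).symm ≪≫
        (DCoh.tildeD _).mapIso (H4DR.TorAmp.lbaseObj φ c.P hflatP)
    have h := H4DualSch.nontrivial_stalk_HD_iff j _ _ eC Q i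
    rw [hQz] at h
    rw [h]
    exact notMem_support_fibre_iff (isFrac_evaluation c.hV y hy) c.P i Q _ hQ


theorem chart_mem (c : Chart f K) {y : Y} (z : f.fiber y) (hz : (f.fiberι y).base z ∈ c.W) : y ∈ c.V := by
  have h := c.e hz
  have h2 : (f.fiberι y).base z ∈ Set.range (f.fiberι y).base := ⟨z, rfl⟩
  rw [Scheme.Hom.range_fiberι] at h2
  exact (show f.base ((f.fiberι y).base z) = y from h2) ▸ (show f.base ((f.fiberι y).base z) ∈ c.V from h)

/-- A degree absent from the fibre is absent. -/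
theorem not_nontrivial_of_fibre (hq : DCoh.IsQCohD K) (hpc : ∀ m : ℤ, DCoh.IsPseudoCoherentD m K) {y : Y}
    (z : f.fiber y) (i : ℤ) (h : ¬ Nontrivial ((DCoh.HD ((DCoh.Lpull (f.fiberι y)).obj K) i).presheaf.stalk z)) :
    ¬ Nontrivial ((DCoh.HD K i).presheaf.stalk ((f.fiberι y).base z)) := by
  obtain ⟨c, hx⟩ := exists_chart (f := f) hq hpc ((f.fiberι y).base z)
  letI := (f.appLE c.V c.W c.e).hom.toAlgebra
  letI := (Y.evaluation c.V y (chart_mem c z hx)).hom.toAlgebra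
  haveI : IsNoetherianRing Γ(Y, c.V) := IsLocallyNoetherian.component_noetherian ⟨c.V, c.hV⟩
  haveI : IsNoetherianRing Γ(X, c.W) := IsLocallyNoetherian.component_noetherian ⟨c.W, c.hW⟩
  haveI : Module.Flat Γ(Y, c.V) Γ(X, c.W) :=
    HasRingHomProperty.appLE (P := @Flat) f inferInstance ⟨c.V, c.hV⟩ ⟨c.W, c.hW⟩ c.e
  obtain ⟨hp, hiff⟩ := c.exI_iff z hx (chart_mem c z hx)
  rw [c.nontrivial_iff _ hx]
  exact notMem_support_of_fibre (isFrac_evaluation c.hV y (chart_mem c z hx)) c.free _ hp i ((hiff i).1 h)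

/-- Absence above passes to the fibre. -/
theorem not_nontrivial_fibre_of_above (hq : DCoh.IsQCohD K) (hpc : ∀ m : ℤ, DCoh.IsPseudoCoherentD m K) {y : Y}
    (z : f.fiber y) (i : ℤ) (h : ∀ j, i ≤ j → ¬ Nontrivial ((DCoh.HD K j).presheaf.stalk ((f.fiberι y).base z))) :
    ¬ Nontrivial ((DCoh.HD ((DCoh.Lpull (f.fiberι y)).obj K) i).presheaf.stalk z) := by
  obtain ⟨c, hx⟩ := exists_chart (f := f) hq hpc ((f.fiberι y).base z)
  letI := (f.appLE c.V c.W c.e).hom.toAlgebra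
  letI := (Y.evaluation c.V y (chart_mem c z hx)).hom.toAlgebra
  haveI : IsNoetherianRing Γ(Y, c.V) := IsLocallyNoetherian.component_noetherian ⟨c.V, c.hV⟩
  haveI : IsNoetherianRing Γ(X, c.W) := IsLocallyNoetherian.component_noetherian ⟨c.W, c.hW⟩
  haveI : Module.Flat Γ(Y, c.V) Γ(X, c.W) :=
    HasRingHomProperty.appLE (P := @Flat) f inferInstance ⟨c.V, c.hV⟩ ⟨c.W, c.hW⟩ c.e
  obtain ⟨hp, hiff⟩ := c.exI_iff z hx (chart_mem c z hx)
  refine (hiff i).2 (exI_fibre_of_above (isFrac_evaluation c.hV y (chart_mem c z hx)) c.free _ hp c.vanish i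
    fun j hj => ?_)
  exact (not_congr (c.nontrivial_iff _ hx j)).1 (h j hj)

/-- The only degree in all fibres is flat over the base. -/
theorem isFlatOver_hd (hq : DCoh.IsQCohD K) (hpc : ∀ m : ℤ, DCoh.IsPseudoCoherentD m K) (d : ℤ)
    (h : ∀ (y : Y) (z : f.fiber y) (j : ℤ), j ≠ d →
      ¬ Nontrivial ((DCoh.HD ((DCoh.Lpull (f.fiberι y)).obj K) j).presheaf.stalk z)) :
    FlatMod.IsFlatOver f (DCoh.HD K d) := by
  intro x
  obtain ⟨c, hx⟩ := exists_chart (f := f) hq hpc x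
  letI := (f.appLE c.V c.W c.e).hom.toAlgebra
  haveI : IsNoetherianRing Γ(Y, c.V) := IsLocallyNoetherian.component_noetherian ⟨c.V, c.hV⟩
  haveI : IsNoetherianRing Γ(X, c.W) := IsLocallyNoetherian.component_noetherian ⟨c.W, c.hW⟩
  haveI : Module.Flat Γ(Y, c.V) Γ(X, c.W) :=
    HasRingHomProperty.appLE (P := @Flat) f inferInstance ⟨c.V, c.hV⟩ ⟨c.W, c.hW⟩ c.e
  let H : ModuleCat.{u} Γ(X, c.W) := Stalk.hA (DRing.toD c.P) d
  letI : Module Γ(Y, c.V) H := modA Γ(Y, c.V) H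
  haveI : IsScalarTower Γ(Y, c.V) Γ(X, c.W) H := towerA H
  haveI hHflat : Module.Flat Γ(Y, c.V) H := by
    obtain ⟨eH⟩ := nonempty_homology_equiv c.P d
    letI := fun (l : ℤ) => modA Γ(Y, c.V) (c.P.X l)
    haveI := fun (l : ℤ) => towerA (A := Γ(Y, c.V)) (c.P.X l)
    refine Module.flat_of_isLocalized_maximal (S := Γ(X, c.W)) H
      (fun m _ => LocalizedModule m.primeCompl H)
      (fun m _ => LocalizedModule.mkLinearMap m.primeCompl H) fun m hm => ?_
    let q : PrimeSpectrum Γ(X, c.W) := ⟨m, hm.isPrime⟩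
    let x' : X := c.hW.fromSpec q
    have hx' : x' ∈ c.W := c.hW.range_fromSpec.subset ⟨q, rfl⟩
    let z : f.fiber (f x') := f.asFiber x'
    have hzx : (f.fiberι (f x')).base z = x' := Scheme.Hom.fiberι_asFiber f x'
    have hz : (f.fiberι (f x')).base z ∈ c.W := by rw [hzx]; exact hx'
    have hqq : c.pt _ hz = q := by
      apply c.hW.fromSpec.isOpenEmbedding.injective
      rw [c.hW.fromSpec_primeIdealOf ⟨_, hz⟩]
      exact hzx
    letI := (Y.evaluation c.V (f x') (chart_mem c z hz)).hom.toAlgebra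
    obtain ⟨hp, hiff⟩ := c.exI_iff z hz (chart_mem c z hz)
    have hflat := flat_homology (isFrac_evaluation c.hV _ (chart_mem c z hz)) c.free _ hp d
      fun j hj => (hiff j).1 (h _ z j hj)
    rw [hqq] at hflat
    haveI := hflat
    exact Module.Flat.of_linearEquiv
      ((IsLocalizedModule.linearEquiv m.primeCompl (LocalizedModule.mkLinearMap m.primeCompl H)
        (LocalizedModule.mkLinearMap m.primeCompl _ ∘ₗ eH.toLinearMap)).restrictScalars Γ(Y, c.V))
  let φ : Γ(Y, c.V) →+* Γ(X, c.W) := algebraMap _ _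
  have h1 := (H8Props.ModuleModel.flat_tilde_iff Γ(Y, c.V) Γ(X, c.W) H).2 hHflat (c.pt x hx)
  have h2 := (H06EGA11c.isFlatOverAt_comp_openImmersion_iff _ c.hV.fromSpec _ _).2 h1
  have hsq : Spec.map (CommRingCat.ofHom φ) ≫ c.hV.fromSpec = c.hW.fromSpec ≫ f :=
    IsAffineOpen.SpecMap_appLE_fromSpec f c.hV c.hW c.e
  rw [hsq] at h2
  have h3 := BaseChange.isFlatOverAt_of_iso (((H4DualSch.hdRestrict c.hW.fromSpec K d).symm ≪≫
    (DerivedCategory.homologyFunctor _ d).mapIso c.iso ≪≫ Stalk.hdTilde (DRing.toD c.P) d).symm) h2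
  suffices hs : FlatMod.IsFlatOverAt f (DCoh.HD K d) (c.hW.fromSpec (c.pt x hx)) by
    have e : c.hW.fromSpec (c.pt x hx) = x := c.hW.fromSpec_primeIdealOf ⟨x, hx⟩
    exact e ▸ hs
  refine (TorTest.isFlatOverAt_iff_ta f _ _).2 ((TorTest.at_restrict c.hW.fromSpec f 0 0 _ _).1 ?_)
  exact H4DR.TorAmp.ta_of_iso (TorTest.stalkOverIso _ _ (DerivedCategory.Q.mapIso
    ((HomologicalComplex.singleMapHomologicalComplex (Scheme.Modules.restrictFunctor c.hW.fromSpec)
      (ComplexShape.up ℤ) 0).app _).symm)) ((TorTest.isFlatOverAt_iff_ta _ _ _).1 h3)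

end Groth.Agent.LeadBrown.Rel
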