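import Groth.Agent.LeadBrown.Rel.FibreChart
import Groth.Agent.LeadBrown.Rel.Geom
import Groth.Agent.H4DualSch.Basic
import Groth.Agent.H4DR.Dualizing.SkGlobal

/-!
# The degrees of the dualizing complex of a fibre
-/

set_option autoImplicit false
set_option linter.style.haveILetI false
set_option linter.unusedSectionVars false
set_option backward.isDefEq.respectTransparency false
set_option maxHeartbeats 1000000

universe u

open CategoryTheory CategoryTheory.Limits AlgebraicGeometry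
open Groth.Agent.H4DR Groth.Agent.H4DR.Dualizing
open Groth.Agent.H16Derived.KFlat.Stalk (rd hasLpull)

attribute [local instance] HasDerivedCategory.standard

namespace Groth.Agent.LeadBrown.Rel

theorem localFibreDim_eq {X S : Scheme.{u}} (f : X ⟶ S) (x : X) :
    Dual3.localFibreDim f x = FlatMor.localDim (f.fiber (f x)) (f.asFiber x) := by
  rw [Dual3.localFibreDim, FlatMor.localDim, iInf_subtype]
  rfl

/-- The degrees in which a normalised dualizing complex lives at a prime. -/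
theorem degrees_at {A : Type u} [CommRing A] [IsNoetherianRing A] {ω : Dual.D A} (hω : Dual.IsDualizing A ω)
    (hN : NormPts A ω) (q : PrimeSpectrum A) :
    ∃ n : ℕ, (q.asIdeal.height : WithBot ℕ∞) + ringKrullDim (A ⧸ q.asIdeal) = n ∧
      (∀ i : ℤ, q ∈ Module.support A (Dual.HD A ω i) → -(n : ℤ) ≤ i ∧ i ≤ 0) ∧
      q ∈ Module.support A (Dual.HD A ω (-(n : ℤ))) ∧
      ∃ r : PrimeSpectrum A, r ≤ q ∧ ∀ i : ℤ, r ∈ Module.support A (Dual.HD A ω i) ↔ i = -(n : ℤ) := by
  haveI : IsNoetherianRing (Loc q) := IsLocalization.isNoetherianRing q.asIdeal.primeCompl (Loc q) ‹_›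
  have hsupp : ∀ s : PrimeSpectrum A, s ∈ Module.support A A := fun s => by
    rw [Module.mem_support_iff_of_finite, Module.annihilator_eq_bot.2 inferInstance]
    exact bot_le
  obtain ⟨δ, D, -, hD, -, -, h2, hi⟩ := exists_interval hω A q (hsupp q)
  obtain ⟨hle, r, -, hrq, hr⟩ := dim_localized_spec hω A q hD
  have hs : ∀ (i : ℤ) (s : PrimeSpectrum A),
      s ∈ Module.support A (Ext.Ex (Dual.inD A A) ω i) ↔ s ∈ Module.support A (Dual.HD A ω i) := fun i s => by
    rw [(H4DR.Ext.evalEquiv ω i).support_eq]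
  haveI : Nontrivial (A ⧸ q.asIdeal) := Ideal.Quotient.nontrivial_iff.2 q.2.ne_top
  obtain ⟨e, he⟩ := Global.exists_dim_quotient hω q
  have hdeg : deg hω q = -(e : ℤ) := Global.deg_eq_neg_dim hω hN q e he
  have hheight : (q.asIdeal.height : WithBot ℕ∞) = (D : WithBot ℕ∞) := by
    rw [← IsLocalization.AtPrime.ringKrullDim_eq_height q.asIdeal (Loc q), ← hD,
      Module.supportDim_eq_of_equiv (selfLocEquiv q), Module.supportDim_self_eq_ringKrullDim]
  have hrmin : r.asIdeal ∈ minimalPrimes A := by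
    refine ⟨⟨r.2, bot_le⟩, fun J hJ hJr => ?_⟩
    by_contra hne
    have hlt : (⟨J, hJ.1⟩ : PrimeSpectrum A) < r := lt_of_le_not_ge hJr hne
    have h3 := hle ⟨J, hJ.1⟩ (hsupp _) (hlt.le.trans hrq)
    have h4 := deg_lt hω hlt
    omega
  refine ⟨D + e, by rw [hheight, he]; push_cast; rfl, fun i hiq => ?_, ?_, r, hrq, fun i => ?_⟩
  · have h3 := hi i ((hs i q).2 hiq)
    omega
  · have h3 := (hs _ q).1 h2
    rwa [show deg hω q - (D : ℤ) = -((D + e : ℕ) : ℤ) by omega] at h3
  · rw [mem_support_HD_iff hω hrmin i]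
    omega

variable [∀ (U V : Scheme.{u}) (j : U ⟶ V) [IsOpenImmersion j], PreservesFiniteLimits (Scheme.Modules.restrictFunctor j)]
  [∀ (R : CommRingCat.{u}), PreservesFiniteLimits (tilde.functor R)]

variable {X Y : Scheme.{u}} [IsNoetherian X] [IsNoetherian Y] {f : X ⟶ Y}

/-- The degrees of the fibre of `f^!O` at a point. -/
theorem fibre_degrees [Flat f] [LocallyOfFinitePresentation f] (hf : MoreMor.IsPerfectMor f)
    (c : DEt.Compactification f) [DCoh.HasRpush c.fbar] {hc : DCoh.RpushPreservesQCoh c.fbar}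
    {a : DCoh.DQCoh Y ⥤ DCoh.DQCoh c.Xbar} (adj : DCoh.RpushQ c.fbar hc ⊣ a) (O : DCoh.DQCoh Y)
    (eO : O.obj ≅ DCoh.inD Y (Coh.structureModule Y)) (y : Y) [DCoh.HasLpull (f.fiberι y)] (z : f.fiber y) :
    let S : f.fiber y → ℤ → Prop := fun w i => Nontrivial ((DCoh.HD ((DCoh.Lpull (f.fiberι y)).obj
      (haveI := c.isOpenImmersion; (rd c.j).obj (a.obj O).obj)) i).presheaf.stalk w)
    ∃ n : ℕ, FlatMor.localDim (f.fiber y) z = n ∧ (∀ i : ℤ, S z i → -(n : ℤ) ≤ i ∧ i ≤ 0) ∧
      S z (-(n : ℤ)) ∧ (∃ η : f.fiber y, η ⤳ z ∧ ∀ i : ℤ, S η i ↔ i = -(n : ℤ)) ∧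
      (LocCoh.IsCohenMacaulayLocalRing ((f.fiber y).presheaf.stalk z) ↔ ∀ i j : ℤ, S z i → S z j → i = j) := by
  intro S
  obtain ⟨A, _, e, _, ω, hω, ⟨q, rfl⟩, hN, ⟨eω⟩⟩ := exists_fibre_chart hf c adj O eO y z
  haveI := hω.isNoetherianRing
  haveI : LocallyOfFiniteType (f.fiberToSpecResidueField y) :=
    inferInstanceAs (LocallyOfFiniteType (pullback.snd f (Y.fromSpecResidueField y)))
  haveI : IsLocallyNoetherian (f.fiber y) :=
    LocallyOfFiniteType.isLocallyNoetherian (f.fiberToSpecResidueField y)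
  have hS : ∀ (p : PrimeSpectrum A) (i : ℤ), S (e.base p) i ↔ p ∈ Module.support A (Dual.HD A ω i) :=
    fun p i => H4DualSch.nontrivial_stalk_HD_iff e _ ω eω p i
  obtain ⟨n, hn, hrange, hlow, r, hrq, hr⟩ := degrees_at hω hN q
  refine ⟨n, ?_, fun i hi => hrange i ((hS q i).1 hi), (hS q _).2 hlow,
    ⟨e.base r, ((PrimeSpectrum.le_iff_specializes r q).1 hrq).map e.continuous, fun i => (hS r i).trans (hr i)⟩, ?_⟩
  · rw [← hn]
    exact H8Props.FieldDim.localDim_chart (k := Y.residueField y) (f.fiberToSpecResidueField y) e q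
  · rw [H4DualSch.isCM_stalk_iff e q, H4DualSch.cm_iff_existsUnique hω q]
    simp only [hS]
    exact ⟨fun h i j hi hj => h.unique hi hj, fun h => ⟨_, hlow, fun i hi => h i _ hi hlow⟩⟩

end Groth.Agent.LeadBrown.Rel
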