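import Groth.Agent.LeadBrown.Rel.Main
import Groth.Agent.H16Derived.TorTest.RelTildeAmp
import Groth.Agent.H16Derived.TorTest.RelTorLoc
import Groth.Agent.H16Derived.TorTest.RpushAmpLoc

/-!
# Relative amplitude from the degrees on the fibres
-/

set_option autoImplicit false
set_option linter.style.haveILetI false
set_option linter.unusedSectionVars false
set_option backward.isDefEq.respectTransparency false
set_option backward.isDefEq.respectTransparency.types false
set_option maxHeartbeats 1000000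

universe u

open CategoryTheory CategoryTheory.Limits AlgebraicGeometry TensorProduct
open Groth.Agent.H16Derived Groth.Agent.H16Derived.KFlat
open Groth.Agent.H16Derived.KFlat.Stalk (rd hasLpull rdQ)

attribute [local instance] HasDerivedCategory.standard
namespace Groth.Agent.LeadBrown.Rel

attribute [local instance] modA towerA

section Algebra

variable {A B : Type u} [CommRing A] [CommRing B] [Algebra A B]
  {P₀ P₁ P₂ : Type u} [AddCommGroup P₀] [AddCommGroup P₁] [AddCommGroup P₂]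
  [Module A P₀] [Module B P₀] [IsScalarTower A B P₀]
  [Module A P₁] [Module B P₁] [IsScalarTower A B P₁]
  [Module A P₂] [Module B P₂] [IsScalarTower A B P₂]
  {f : P₀ →ₗ[B] P₁} {g : P₁ →ₗ[B] P₂} {q : Ideal B}

/-- Exactness for finite modules suffices. -/
theorem exAt_of_finite [Module.Flat A P₂]
    (h : ∀ (N : Type u) [AddCommGroup N] [Module A N] [Module.Finite A N], ExAt A f g q N)
    (N : Type u) [AddCommGroup N] [Module A N] : ExAt A f g q N := by
  intro x hx
  obtain ⟨N', hN', hx'⟩ : ∃ N' : Submodule A N, Module.Finite A N' ∧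
      x ∈ LinearMap.range (N'.subtype.lTensor P₁) := by
    clear hx
    induction x using TensorProduct.induction_on with
    | zero => exact ⟨⊥, inferInstance, zero_mem _⟩
    | tmul p n =>
      exact ⟨A ∙ n, inferInstance, ⟨p ⊗ₜ ⟨n, Submodule.mem_span_singleton_self n⟩, rfl⟩⟩
    | add u v hu hv =>
      obtain ⟨N₁, h₁, u', rfl⟩ := hu
      obtain ⟨N₂, h₂, v', rfl⟩ := hv
      refine ⟨N₁ ⊔ N₂, Module.Finite.iff_fg.2 ((Module.Finite.iff_fg.1 h₁).sup (Module.Finite.iff_fg.1 h₂)), ?_⟩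
      refine add_mem ⟨(Submodule.inclusion le_sup_left).lTensor P₁ u', ?_⟩
        ⟨(Submodule.inclusion le_sup_right).lTensor P₁ v', ?_⟩ <;>
      rw [← LinearMap.lTensor_comp_apply, Submodule.subtype_comp_inclusion]
  obtain ⟨x', rfl⟩ := hx'
  have h0 : tn g N' x' = 0 := by
    apply Module.Flat.lTensor_preserves_injective_linearMap (M := P₂) N'.subtype Subtype.val_injective
    rw [← tn_natural, hx, map_zero]
  obtain ⟨s, hs, y, hy⟩ := h N' x' h0
  exact ⟨s, hs, N'.subtype.lTensor P₀ y, by rw [tn_natural, hy, lTensor_smul]⟩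

/-- Exact at every prime is exact. -/
theorem mem_range_of_exAt {N : Type u} [AddCommGroup N] [Module A N]
    (h : ∀ q : PrimeSpectrum B, ExAt A f g q.asIdeal N) {x : P₁ ⊗[A] N} (hx : tn g N x = 0) :
    x ∈ LinearMap.range (tn f N) := by
  by_contra hne
  have htop : (LinearMap.range (tn f N)).colon {x} ≠ (⊤ : Ideal B) := fun he => hne (by
    have h1 : (1 : B) ∈ (LinearMap.range (tn f N)).colon {x} := by rw [he]; trivial
    simpa using Submodule.mem_colon_singleton.1 h1)
  obtain ⟨m, hm, hle⟩ := Ideal.exists_le_maximal _ htop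
  obtain ⟨s, hs, hsx⟩ := h ⟨m, hm.isPrime⟩ x hx
  exact hs (hle (Submodule.mem_colon_singleton.2 hsx))

/-- The tor amplitude over `A` from exactness at every prime. -/
theorem ta_of_exI [IsNoetherianRing A] [IsNoetherianRing B] [Module.Flat A B] {P : DRing.Cx B} {b : ℤ}
    (hb : DRing.VanishesAbove P b) (hP : DRing.TermwiseFiniteFree P) (lo hi : ℤ)
    (h : ∀ (q : PrimeSpectrum B) (i : ℤ), (i < lo ∨ hi < i) →
      ∀ (N : Type u) [AddCommGroup N] [Module A N] [Module.Finite A N], ExI A P i q.asIdeal N) :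
    DRing.HasTorAmplitudeIn A lo hi ((DRing.restrictD (algebraMap A B)).obj (DRing.toD P)) := by
  let P' := (DTen.resCx (algebraMap A B)).obj P
  have hflat : DRing.TermwiseFlat P' := fun j => flat_term (A := A) hP j
  have hb' : DRing.VanishesAbove P' b := fun j hj =>
    (ModuleCat.restrictScalars (algebraMap A B)).map_isZero (hb j hj)
  have hex : ∀ (M : ModuleCat.{u} A) (i : ℤ), (i < lo ∨ hi < i) → ((H4DR.TorAmp.tens M).obj P').ExactAt i := by
    intro M i hi'
    haveI := flat_term (A := A) hP (i + 1)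
    rw [HomologicalComplex.exactAt_iff' _ (i - 1) i (i + 1) (by simp) (by simp),
      ShortComplex.moduleCat_exact_iff]
    intro x hx
    exact mem_range_of_exAt (f := df P (i - 1) i) (g := df P i (i + 1))
      (fun q => exAt_of_finite (fun N _ _ _ => h q i hi' N) M) hx
  haveI : ∀ M : ModuleCat.{u} A, DRing.HasLTensor A M := fun M => H4DR.TorAmp.hasLTensor M
  refine H4DR.TorAmp.ta_of_iso ((DTen.resFactors (algebraMap A B)).app P).symm
    ((H4DR.TorAmp.ta_iff_ltensor _ lo hi).2 fun M i hi' => ?_)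
  haveI := (H4DR.TorAmp.subsingleton_HD_toD_iff _ i).2 (hex M i hi')
  exact (H4DR.PCoh.hEquiv i (H4DR.TorAmp.ltensorObj M P' (H4DR.TorAmp.isKFlat_of_flat hb' hflat))).injective.subsingleton

end Algebra

variable [∀ (U V : Scheme.{u}) (j : U ⟶ V) [IsOpenImmersion j], PreservesFiniteLimits (Scheme.Modules.restrictFunctor j)]
  [∀ (R : CommRingCat.{u}), PreservesFiniteLimits (tilde.functor R)]

variable {X Y : Scheme.{u}} [IsLocallyNoetherian X] [IsLocallyNoetherian Y] {f : X ⟶ Y} [Flat f]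
  {K : DCoh.D X} [∀ y : Y, DCoh.HasLpull (f.fiberι y)]

/-- Degrees on the fibres bound the relative amplitude. -/
theorem hasRelFlatAmplitudeIn_of_fibres (hq : DCoh.IsQCohD K) (hpc : ∀ m : ℤ, DCoh.IsPseudoCoherentD m K)
    (lo hi : ℤ) (h : ∀ (y : Y) (z : f.fiber y) (i : ℤ), (i < lo ∨ hi < i) →
      ¬ Nontrivial ((DCoh.HD ((DCoh.Lpull (f.fiberι y)).obj K) i).presheaf.stalk z)) :
    DCoh.HasRelFlatAmplitudeIn f lo hi K := by
  obtain ⟨F, ⟨eF⟩⟩ : ∃ F : CochainComplex X.Modules ℤ, Nonempty (DCoh.toD X F ≅ K) :=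
    ⟨_, ⟨DerivedCategory.Q.objObjPreimageIso K⟩⟩
  have hTA : DerSch.HasTorAmplitude f lo hi F := by
    intro x
    obtain ⟨c, hx⟩ := exists_chart (f := f) hq hpc x
    letI := (f.appLE c.V c.W c.e).hom.toAlgebra
    haveI : IsNoetherianRing Γ(Y, c.V) := IsLocallyNoetherian.component_noetherian ⟨c.V, c.hV⟩
    haveI : IsNoetherianRing Γ(X, c.W) := IsLocallyNoetherian.component_noetherian ⟨c.W, c.hW⟩
    haveI : Module.Flat Γ(Y, c.V) Γ(X, c.W) :=
      HasRingHomProperty.appLE (P := @Flat) f inferInstance ⟨c.V, c.hV⟩ ⟨c.W, c.hW⟩ c.e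
    have hA : DRing.HasTorAmplitudeIn Γ(Y, c.V) lo hi
        ((DRing.restrictD (algebraMap Γ(Y, c.V) Γ(X, c.W))).obj (DRing.toD c.P)) := by
      refine ta_of_exI c.vanish c.free lo hi fun q i hi' N _ _ _ => ?_
      let x' : X := c.hW.fromSpec q
      have hx' : x' ∈ c.W := c.hW.range_fromSpec.subset ⟨q, rfl⟩
      let z : f.fiber (f x') := f.asFiber x'
      have hzx : (f.fiberι (f x')).base z = x' := Scheme.Hom.fiberι_asFiber f x'
      have hz : (f.fiberι (f x')).base z ∈ c.W := by rw [hzx]; exact hx'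
      have hqq : c.pt _ hz = q := by
        apply c.hW.fromSpec.isOpenEmbedding.injective
        rw [c.hW.fromSpec_primeIdealOf ⟨_, hz⟩]
        exact hzx
      letI := (Y.evaluation c.V (f x') (chart_mem c z hz)).hom.toAlgebra
      obtain ⟨hp, hiff⟩ := c.exI_iff z hz (chart_mem c z hz)
      haveI := fun j => flat_term (A := Γ(Y, c.V)) c.free j
      haveI := fun j => (c.free j).1
      rw [← hqq]
      exact exAt_of_fibre (df_comp c.P _ _ _) (isFrac_evaluation c.hV _ (chart_mem c z hz)) hp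
        ((hiff i).1 (h _ z i hi')) N
    let φ : Γ(Y, c.V) →+* Γ(X, c.W) := algebraMap _ _
    let FW := ((Scheme.Modules.restrictFunctor c.hW.fromSpec).mapHomologicalComplex (ComplexShape.up ℤ)).obj F
    let eW : DCoh.toD (Spec (CommRingCat.of Γ(X, c.W))) FW ≅ (DCoh.tildeD (CommRingCat.of Γ(X, c.W))).obj (DRing.toD c.P) :=
      ((rdQ c.hW.fromSpec).app F).symm ≪≫ (rd c.hW.fromSpec).mapIso eF ≪≫ c.iso
    have h1 := (TorTest.hasTorAmplitude_tildeD_iff φ (DRing.toD c.P) FW eW lo hi).2 hA (c.pt x hx)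
    have h2 := TorTest.at_comp _ c.hV.fromSpec h1
    have hsq : Spec.map (CommRingCat.ofHom φ) ≫ c.hV.fromSpec = c.hW.fromSpec ≫ f :=
      IsAffineOpen.SpecMap_appLE_fromSpec f c.hV c.hW c.e
    rw [hsq] at h2
    have h3 := (TorTest.at_restrict c.hW.fromSpec f lo hi F (c.pt x hx)).1 h2
    have e : c.hW.fromSpec (c.pt x hx) = x := c.hW.fromSpec_primeIdealOf ⟨x, hx⟩
    exact e ▸ h3
  obtain ⟨E, hE, hflat, ⟨eE⟩⟩ := TorTest.hasRelFlatAmplitudeIn_of_stalk f hTA
  exact ⟨E, hE, hflat, ⟨eE ≪≫ eF⟩⟩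

end Groth.Agent.LeadBrown.Rel
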