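import Groth.Agent.LeadBrown.Rel.Grade
import Groth.Agent.LeadBrown.LocalModel
import Groth.Agent.LeadBrown.Independent
import Groth.Agent.H4RepDual.Bridge
import Groth.Agent.H8Props.PushClosedBasic
import Groth.Agent.H16Derived.QCohD.HomVanish
import Groth.Agent.H4RepDual.PointScheme
import Groth.Agent.H8Props.FibreDimSemicont

/-!
# The lower bound for `f^!O`
-/

set_option autoImplicit false
set_option linter.style.haveILetI false
set_option linter.unusedSectionVars false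
set_option backward.isDefEq.respectTransparency false
set_option maxHeartbeats 1600000

universe u

open CategoryTheory CategoryTheory.Limits AlgebraicGeometry TopologicalSpace
open Groth.Agent.H16Derived Groth.Agent.H16Derived.KFlat
open Groth.Agent.H16Derived.KFlat.Stalk (rd rdComp hasLpull homologyRdIso hdTilde)
open Groth.Agent.H16Derived.Thomason (isIso_restrictRpushAdj_counit restrictRpushAdj)
open DerivedCategory.TStructure (t)

attribute [local instance] HasDerivedCategory.standard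

namespace Groth.Agent.LeadBrown.Rel

variable [∀ (U V : Scheme.{u}) (j : U ⟶ V) [IsOpenImmersion j], PreservesFiniteLimits (Scheme.Modules.restrictFunctor j)]
  [∀ (R : CommRingCat.{u}), PreservesFiniteLimits (tilde.functor R)]

/-- No maps from `O` on an affine scheme means no cohomology. -/
theorem subsingleton_stalk_of_hom {U : Scheme.{u}} [IsAffine U] {E : DCoh.D U} (hE : DCoh.IsQCohD E) (i : ℤ)
    (h : Subsingleton (DCoh.inD U (Coh.structureModule U) ⟶ E⟦i⟧)) (x : U) :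
    Subsingleton ((DCoh.HD E i).presheaf.stalk x) := by
  let c := U.isoSpec.hom
  haveI := QCohD.hasRpush c
  obtain ⟨R, ⟨eR⟩⟩ := QCohD.exists_tildeD_iso (R := Γ(U, ⊤))
    (QCohD.isQCohD_rpush c (QCohD.HomVanish.isQCohD_shift hE i) (K := E⟦i⟧))
  haveI : Subsingleton (Dual.HD Γ(U, ⊤) R 0) := (H4RepDual.h0Equiv (A := Γ(U, ⊤)) c eR).symm.toEquiv.subsingleton
  have hz : IsZero (DCoh.HD ((rd c).obj ((DCoh.tildeD Γ(U, ⊤)).obj R)) 0) :=
    ((Scheme.Modules.restrictFunctor c).map_isZero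
      (((tilde.functor Γ(U, ⊤)).map_isZero (ModuleCat.isZero_of_subsingleton _ :
        IsZero (Stalk.hA (A := Γ(U, ⊤)) R 0))).of_iso (hdTilde R 0))).of_iso (homologyRdIso c _ 0)
  haveI := isIso_restrictRpushAdj_counit c
  have hz' : IsZero (DCoh.HD E i) := hz.of_iso
    ((((DerivedCategory.homologyFunctor U.Modules 0).shiftIso i 0 i (by omega)).app E).symm ≪≫
      (DerivedCategory.homologyFunctor U.Modules 0).mapIso
        ((asIso ((restrictRpushAdj c).counit.app (E⟦i⟧))).symm ≪≫ (rd c).mapIso eR.symm))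
  exact AddCommGrpCat.subsingleton_of_isZero ((Scheme.Modules.toPresheaf U ⋙ TopCat.Presheaf.stalkFunctor _ x).map_isZero hz')

/-- Below minus the fibre dimension the local model has no cohomology. -/
theorem subsingleton_stalk_model {U W Y : Scheme.{u}} [IsNoetherian Y] [IsAffine W] [IsNoetherian W] (i : U ⟶ W)
    [IsClosedImmersion i] (g : W ⟶ Y) (N n : ℕ) [SmoothOfRelativeDimension N g]
    (hd : ∀ u : U, FlatMor.fibreDimAt (i ≫ g) u ≤ (n : WithBot ℕ∞))
    [DCoh.HasRpush i] {hi : DCoh.RpushPreservesQCoh i} {b : DCoh.DQCoh W ⥤ DCoh.DQCoh U}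
    (adj : DCoh.RpushQ i hi ⊣ b) (M : DCoh.DQCoh W) (eM : M.obj ≅ (DCoh.inD W (Coh.structureModule W))⟦(N : ℤ)⟧)
    (d : ℤ) (hdn : d < -(n : ℤ)) (u : U) : Subsingleton ((DCoh.HD (b.obj M).obj d).presheaf.stalk u) := by
  haveI : IsAffine U := isAffine_of_isAffineHom i
  haveI : Nonempty U := ⟨u⟩
  refine subsingleton_stalk_of_hom (b.obj M).property d ?_ u
  let O' : DCoh.DQCoh U := ⟨(DCoh.inD U (Coh.structureModule U))⟦(-d)⟧,
    QCohD.HomVanish.isQCohD_shift (Dual.isQCohD_of_isPerfect (PnD.isPerfect_one U)) (-d)⟩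
  refine @Equiv.subsingleton _ _ ((shiftEquiv' (DCoh.D U) (-d) d (neg_add_cancel d)).toAdjunction.homEquiv (DCoh.inD U (Coh.structureModule U)) (b.obj M).obj).symm ?_
  refine @Equiv.subsingleton _ _ (homEquivD adj O'.obj O'.property M) ?_
  letI := KFlat.Stalk.rpushCommShift i
  let G := (Scheme.Modules.pushforward i).obj (Coh.structureModule U)
  let e : (DCoh.Rpush i).obj O'.obj ≅ (DCoh.inD W G)⟦(-d)⟧ :=
    ((DCoh.Rpush i).commShiftIso (-d)).app _ ≪≫ (shiftFunctor _ (-d)).mapIso ((rpushIsoPushD i).app _ ≪≫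
      ((Scheme.Modules.pushforward i).mapDerivedCategorySingleFunctor 0).app _)
  refine @Equiv.subsingleton _ _ (e.homCongr eM) ?_
  refine @Equiv.subsingleton _ _ ((shiftEquiv' (DCoh.D W) (-d) d (neg_add_cancel d)).toAdjunction.homEquiv _ _) ?_
  refine @Equiv.subsingleton _ _ ((Iso.refl (DCoh.inD W G)).homCongr
    ((shiftFunctorAdd' (DCoh.D W) (N : ℤ) d ((N : ℤ) + d) rfl).app _).symm) ?_
  rcases lt_or_ge ((N : ℤ) + d) 0 with hneg | hpos
  · haveI : ((DCoh.inD W (Coh.structureModule W))⟦((N : ℤ) + d)⟧).IsGE (-((N : ℤ) + d)) :=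
      t.isGE_shift _ 0 ((N : ℤ) + d) (-((N : ℤ) + d)) (by omega)
    exact subsingleton_of_forall_eq 0 fun φ => t.zero φ 0 (-((N : ℤ) + d)) (by omega)
  obtain ⟨l, hl, hk, hreg⟩ := exists_regular_killed i g N n hd
  obtain ⟨q, hq⟩ := Int.eq_ofNat_of_zero_le hpos
  haveI := H17.ExtRegVanish.subsingleton_ext_of_regular l G (Coh.structureModule W) hk hreg q (by omega)
  rw [hq]
  exact (Abelian.Ext.homEquiv (X := G) (Y := Coh.structureModule W) (n := q)).symm.subsingleton

variable {X Y : Scheme.{u}} [IsNoetherian X] [IsNoetherian Y] {f : X ⟶ Y}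

/-- The lower bound at a point. -/
theorem neg_le_of_nontrivial [LocallyOfFiniteType f] (c : DEt.Compactification f) [DCoh.HasRpush c.fbar]
    {hc : DCoh.RpushPreservesQCoh c.fbar} {a : DCoh.DQCoh Y ⥤ DCoh.DQCoh c.Xbar}
    (adj : DCoh.RpushQ c.fbar hc ⊣ a) (O : DCoh.DQCoh Y)
    (eO : O.obj ≅ DCoh.inD Y (Coh.structureModule Y)) (x : X) (n : ℕ)
    (hn : FlatMor.fibreDimAt f x ≤ (n : WithBot ℕ∞)) (d : ℤ)
    (hd : Nontrivial ((DCoh.HD ((rd (haveI := c.isOpenImmersion; c.j)).obj (a.obj O).obj) d).presheaf.stalk x)) :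
    -(n : ℤ) ≤ d := by
  by_contra hlt
  haveI := c.isOpenImmersion
  let X' : X.Opens := ⟨{z | FlatMor.fibreDimAt f z ≤ (n : WithBot ℕ∞)}, H8Props.FieldDim.isOpen_fibreDimAt_le f n⟩
  let c' : DEt.Compactification (X'.ι ≫ f) :=
    { Xbar := c.Xbar, j := X'.ι ≫ c.j, fbar := c.fbar, isOpenImmersion := inferInstance,
      isProper := c.isProper, fac := by rw [Category.assoc, c.fac] }
  haveI : DCoh.HasRpush c'.fbar := ‹DCoh.HasRpush c.fbar›
  haveI : IsLocallyNoetherian (X' : Scheme.{u}) := isLocallyNoetherian_of_isOpenImmersion X'.ι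
  haveI : CompactSpace (X' : Scheme.{u}) := isCompact_iff_compactSpace.mp (NoetherianSpace.isCompact (X' : Set X))
  haveI : IsNoetherian (X' : Scheme.{u}) := { }
  obtain ⟨U, j, hj, W, i, g, _, _, _, _, ⟨v, hv⟩, w, -, _, hi, b, adjb, N, m, hm, hrel, H⟩ :=
    exists_local_model'' (f := X'.ι ≫ f) c' (hc := hc) (a := a) adj (⟨x, hn⟩ : X')
  haveI := hj
  obtain ⟨M, l, hl, ⟨eU⟩, -, hM⟩ := H O 0 (t.isGE_of_iso eO.symm 0)
  obtain ⟨eM⟩ := hM ⟨eO⟩
  subst hm
  have hdim : ∀ u : U, FlatMor.fibreDimAt (i ≫ g) u ≤ (n : WithBot ℕ∞) := fun u => by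
    rw [w, ← Category.assoc, H8Props.FieldDim.fibreDimAt_openImmersion_comp (j ≫ X'.ι) f u]
    exact (j u).2
  have h1 := subsingleton_stalk_model i g N n hdim adjb M eM d (by omega) v
  let K : DCoh.D X := (rd c.j).obj (a.obj O).obj
  let eK : (rd (j ≫ X'.ι)).obj K ≅ (b.obj M).obj :=
    rdComp j X'.ι (j ≫ X'.ι) rfl K ≪≫ (rd j).mapIso (rdComp X'.ι c.j (X'.ι ≫ c.j) rfl (a.obj O).obj).symm ≪≫ eU
  have hx : (j ≫ X'.ι) v = x := congrArg Subtype.val hv
  have h2 : Nontrivial (((DCoh.HD K d).restrict (j ≫ X'.ι)).presheaf.stalk v) :=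
    (H4DualSch.nontrivial_stalk_restrict_iff (j ≫ X'.ι) _ v).2 (by rw [hx]; exact hd)
  let eS : ((DCoh.HD K d).restrict (j ≫ X'.ι)).presheaf.stalk v ≅ (DCoh.HD (b.obj M).obj d).presheaf.stalk v :=
    (Scheme.Modules.toPresheaf U ⋙ TopCat.Presheaf.stalkFunctor AddCommGrpCat.{u} v).mapIso
      ((homologyRdIso (j ≫ X'.ι) K d).symm ≪≫ (DerivedCategory.homologyFunctor _ d).mapIso eK)
  haveI := eS.addCommGroupIsoToAddEquiv.toEquiv.subsingleton
  exact not_nontrivial _ h2

end Groth.Agent.LeadBrown.Rel
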