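import Groth.Agent.LeadBrown.Rel.Localise
import Mathlib.Algebra.Module.Submodule.Ker
import Mathlib.RingTheory.Finiteness.Basic

/-!
# From exactness above to exactness of the fibre above
-/

set_option autoImplicit false
set_option linter.unusedSectionVars false
set_option linter.style.haveILetI false

universe u

open TensorProduct

namespace Groth.Agent.LeadBrown.Rel

variable {A B : Type u} [CommRing A] [CommRing B] [Algebra A B]
  {P₀ P₁ P₂ P₃ : Type u} [AddCommGroup P₀] [AddCommGroup P₁] [AddCommGroup P₂] [AddCommGroup P₃]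
  [Module A P₀] [Module B P₀] [IsScalarTower A B P₀]
  [Module A P₁] [Module B P₁] [IsScalarTower A B P₁]
  [Module A P₂] [Module B P₂] [IsScalarTower A B P₂]
  [Module A P₃] [Module B P₃] [IsScalarTower A B P₃]
  {f : P₀ →ₗ[B] P₁} {g : P₁ →ₗ[B] P₂} {h : P₂ →ₗ[B] P₃} {q : Ideal B} [q.IsPrime]

theorem exAt_pi [Module.Flat A P₂] (hgf : g ∘ₗ f = 0) (hA : ExAt A f g q A) :
    ∀ n : ℕ, ExAt A f g q (Fin n → A)
  | 0 => exAt_of_subsingleton _
  | n + 1 => by
    refine exAt_of_ses hgf (LinearMap.single A (fun _ : Fin (n + 1) => A) 0) (LinearMap.funLeft A A Fin.succ) ?_ ?_ ?_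
      hA (exAt_pi hgf hA n)
    · intro a b hab
      simpa using congrFun hab 0
    · exact fun v => ⟨Fin.cons 0 v, funext fun i => by simp⟩
    · intro v
      refine ⟨fun hv => ⟨v 0, funext fun i => ?_⟩, ?_⟩
      · rcases Fin.eq_zero_or_eq_succ i with rfl | ⟨j, rfl⟩
        · simp
        · exact (by simpa using (congrFun hv j).symm)
      · rintro ⟨a, rfl⟩
        exact funext fun i => by simp

/-- One step down. -/
theorem exAt_of_succ [IsNoetherianRing A] [Module.Flat A P₂] [Module.Flat A P₃] (hgf : g ∘ₗ f = 0) (hhg : h ∘ₗ g = 0)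
    (hnext : ∀ (N : Type u) [AddCommGroup N] [Module A N] [Module.Finite A N], ExAt A g h q N)
    (hA : ExAt A f g q A) (N : Type u) [AddCommGroup N] [Module A N] [Module.Finite A N] : ExAt A f g q N := by
  obtain ⟨n, π, hπ⟩ := Module.Finite.exists_fin' A N
  let ι := (LinearMap.ker π).subtype
  haveI : Module.Finite A (LinearMap.ker π) := Module.IsNoetherian.finite A _
  have hex : Function.Exact ι π := π.exact_subtype_ker_map
  intro x hx
  obtain ⟨x, rfl⟩ := π.lTensor_surjective P₁ hπ x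
  obtain ⟨w, hw⟩ := (lTensor_exact P₂ hex hπ (tn g _ x)).1 (by rw [← tn_natural, hx])
  have hw0 : tn h (LinearMap.ker π) w = 0 := by
    apply Module.Flat.lTensor_preserves_injective_linearMap (M := P₃) ι Subtype.val_injective
    rw [← tn_natural, hw, map_zero, tn_comp hhg]
  obtain ⟨s, hs, v, hv⟩ := hnext (LinearMap.ker π) w hw0
  obtain ⟨r, hr, y, hy⟩ := exAt_pi hgf hA n (s • x - ι.lTensor P₁ v) (by
    rw [map_sub, map_smul, tn_natural, hv, lTensor_smul, hw, sub_self])
  refine ⟨r * s, fun h' => (Ideal.IsPrime.mem_or_mem ‹_› h').elim hr hs, π.lTensor P₀ y, ?_⟩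
  rw [tn_natural, hy, lTensor_smul, map_sub, lTensor_smul, ← LinearMap.comp_apply (π.lTensor P₁),
    ← LinearMap.lTensor_comp, hex.linearMap_comp_eq_zero, LinearMap.lTensor_zero, LinearMap.zero_apply, sub_zero,
    mul_smul]

/-- To the residue field. -/
theorem exAt_fibre [Module.Flat A P₂] {k : Type u} [Field k] [Algebra A k] (hk : IsFrac A k)
    (hp : q.comap (algebraMap A B) = RingHom.ker (algebraMap A k))
    (hq : ExAt A f g q (A ⧸ RingHom.ker (algebraMap A k))) : ExAt A f g q k := by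
  let ι : (A ⧸ RingHom.ker (algebraMap A k)) →ₗ[A] k :=
    Submodule.liftQ _ (Algebra.linearMap A k) fun a ha => ha
  have hι : Function.Injective ι := by
    refine (injective_iff_map_eq_zero ι).2 fun n hn => ?_
    obtain ⟨n, rfl⟩ := Submodule.Quotient.mk_surjective _ n
    exact (Submodule.Quotient.mk_eq_zero _).2 hn
  have hclear : ∀ y : P₁ ⊗[A] k, ∃ a : A, algebraMap A k a ≠ 0 ∧ ∃ z, a • y = ι.lTensor P₁ z := by
    intro y
    induction y using TensorProduct.induction_on with
    | zero => exact ⟨1, by simp, 0, by simp⟩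
    | tmul x c =>
      obtain ⟨a, ha, n, e⟩ := hk c
      exact ⟨a, ha, x ⊗ₜ Submodule.Quotient.mk n, by
        rw [LinearMap.lTensor_tmul, ← TensorProduct.tmul_smul, e]; rfl⟩
    | add y₁ y₂ h₁ h₂ =>
      obtain ⟨a₁, ha₁, z₁, e₁⟩ := h₁
      obtain ⟨a₂, ha₂, z₂, e₂⟩ := h₂
      exact ⟨a₁ * a₂, by rw [map_mul]; exact mul_ne_zero ha₁ ha₂, a₂ • z₁ + a₁ • z₂, by
        rw [map_add, map_smul, map_smul, ← e₁, ← e₂, smul_add, smul_smul, smul_smul, mul_comm a₂]⟩
  intro x hx
  obtain ⟨a, ha, z, hz⟩ := hclear x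
  have hz0 : tn g _ z = 0 := by
    apply Module.Flat.lTensor_preserves_injective_linearMap (M := P₂) ι hι
    rw [← tn_natural, ← hz, LinearMap.map_smul_of_tower, hx, smul_zero, map_zero]
  obtain ⟨s, hs, y, hy⟩ := hq z hz0
  refine ⟨s * algebraMap A B a, fun h' => (Ideal.IsPrime.mem_or_mem ‹_› h').elim hs
    fun ha' => ha (RingHom.mem_ker.1 (hp.le ha')), ι.lTensor P₀ y, ?_⟩
  rw [tn_natural, hy, lTensor_smul, ← hz, mul_smul, algebraMap_smul]

end Groth.Agent.LeadBrown.Rel
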