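import Groth.Agent.H4RepDual.PointScheme
import Groth.Agent.H4DR.Dualizing.SkGlobal
import Groth.Agent.H8Props.FieldDimSmooth
import Groth.Agent.H02CA.SmoothRegular
import Groth.Agent.H4DR.Dualizing.Gorenstein
import Groth.Agent.H4DR.Dualizing.GorensteinFibre

/-!
# The degree at closed points: smooth schemes over a field and their closed subschemes
-/

set_option autoImplicit false
set_option linter.style.haveILetI false
set_option linter.unusedSectionVars false
set_option backward.isDefEq.respectTransparency false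

universe u

open CategoryTheory CategoryTheory.Limits AlgebraicGeometry
open Groth.Agent.H4DR Groth.Agent.H4DR.Dualizing Groth.Agent.H4DR.Ext
open Groth.Agent.H4DR.Ext (Ex)
open Groth.Agent.H26Dual2 (reF TD)
open Groth.Agent.H16Derived.KFlat.Stalk (rd)

attribute [local instance] HasDerivedCategory.standard

namespace Groth.Agent.LeadBrown.Rel

/-- `Ext_B(k, ω)` through the right adjoint of restriction to `k`. -/
theorem nonempty_exPoint {B k : Type u} [CommRing B] [Field k] {ψ : B →+* k} {R : Dual.D B ⥤ Dual.D k}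
    (adj : DRing.restrictD ψ ⊣ R) (hψ : Function.Surjective ψ) (ω : Dual.D B) (i : ℤ) :
    Nonempty (Ex (Dual.inD k k) (R.obj ω) i ≃ Ex (Dual.inD B (B ⧸ RingHom.ker ψ)) ω i) := by
  letI := Module.compHom k ψ
  let ι₀ : (B ⧸ RingHom.ker ψ) →ₗ[B] k := Submodule.liftQ _
    ({ toFun := ψ, map_add' := map_add ψ, map_smul' := fun b x => map_mul ψ b x } : B →ₗ[B] k) fun b hb => hb
  have hι : Function.Bijective ι₀ := by
    refine ⟨(injective_iff_map_eq_zero _).2 fun x => Submodule.Quotient.induction_on _ x fun b hb =>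
      Ideal.Quotient.eq_zero_iff_mem.2 hb, fun y => ?_⟩
    obtain ⟨b, rfl⟩ := hψ y
    exact ⟨Submodule.Quotient.mk b, rfl⟩
  let ι := LinearEquiv.ofBijective ι₀ hι
  let π : Ex ((DRing.restrictD ψ).obj (Dual.inD k k)) ω i ≃ₗ[B] Ex (Dual.inD B (B ⧸ RingHom.ker ψ)) ω i :=
    (Ext.preIso (((reF ψ).mapDerivedCategorySingleFunctor 0).app (ModuleCat.of k k)).symm _).trans
      (Ext.exCongr ι _)
  exact ⟨(exAdj adj (Dual.inD k k) ω i).trans π.toEquiv⟩

/-- Normalised at the closed points. -/
def NormPts (B : Type u) [CommRing B] (ω : Dual.D B) : Prop :=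
  ∀ (m : Ideal B) (_ : m.IsMaximal) (i : ℤ), i ≠ 0 → Subsingleton (Dual.inD B (B ⧸ m) ⟶ ω⟦i⟧)

/-- A smooth algebra of dimension `n` at every maximal ideal: `A[n]` is normalised at closed points. -/
theorem normPts_self_shift {A : Type u} [CommRing A] [IsNoetherianRing A] (n : ℕ) (hdim : ringKrullDim A < ⊤)
    (hreg : ∀ p : PrimeSpectrum A, IsRegularLocalRing (Loc p))
    (hn : ∀ m : PrimeSpectrum A, m.asIdeal.IsMaximal → ringKrullDim (Loc m) = (n : WithBot ℕ∞)) :
    NormPts A ((Dual.inD A A)⟦(n : ℤ)⟧) := by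
  have hω := isDualizing_self_of_regular hdim hreg
  intro m hm i hi
  let P : PrimeSpectrum A := ⟨m, hm.isPrime⟩
  haveI := hreg P
  haveI : IsDomain (Loc P) := H4Depth.isDomain_of_isRegularLocalRing _
  -- the component through `m`
  obtain ⟨η, hη, hηle⟩ := Ideal.exists_minimalPrimes_le (I := (⊥ : Ideal A)) (J := m) bot_le
  let E : PrimeSpectrum A := ⟨η, hη.1.1⟩
  have hdegE : deg hω E = 0 := by
    by_contra h0
    have h1 := (mem_support_HD_iff (ω := Dual.inD A A) hω (p := E) hη (deg hω E)).2 rfl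
    haveI := PCoh.subsingleton_HD_inD (ModuleCat.of A A) (deg hω E) h0
    exact Set.notMem_empty E ((Module.support_eq_empty_iff (R := A)
      (M := Dual.HD A (Dual.inD A A) (deg hω E))).2 ‹_› ▸ h1)
  have hmap : η.map (algebraMap A (Loc P)) = ⊥ := by
    have hdisj : Disjoint (m.primeCompl : Set A) (η : Set A) := Set.disjoint_left.2 fun a ha hap => ha (hηle hap)
    haveI hQ := IsLocalization.isPrime_of_isPrime_disjoint m.primeCompl (Loc P) η hη.1.1 hdisj
    have hcomap : (η.map (algebraMap A (Loc P))).comap (algebraMap A (Loc P)) = η :=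
      IsLocalization.under_map_of_isPrime_disjoint m.primeCompl (Loc P) hη.1.1 hdisj
    have hle : (⊥ : Ideal (Loc P)).comap (algebraMap A (Loc P)) ≤ η := hcomap ▸ Ideal.comap_mono bot_le
    haveI : (⊥ : Ideal (Loc P)).IsPrime := Ideal.isPrime_bot
    have heq := le_antisymm hle (hη.2 ⟨Ideal.IsPrime.comap _, bot_le⟩ hle)
    rw [← heq]
    exact IsLocalization.map_under m.primeCompl (Loc P) ⊥
  have hdegP : deg hω P = (n : ℤ) := by
    have h := deg_eq_sub hω (p := E) (q := P) hηle (d := n) (by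
      rw [show E.asIdeal = η from rfl, hmap, ringKrullDim_eq_of_ringEquiv (RingEquiv.quotientBot (Loc P))]
      exact hn P hm)
    omega
  -- all other degrees vanish
  haveI : Subsingleton (Ex (Dual.inD A (A ⧸ m)) (Dual.inD A A) ((n : ℤ) + i)) := by
    rw [← Module.support_eq_empty_iff (R := A), Set.eq_empty_iff_forall_notMem]
    intro q hq
    have hmq : m ≤ q.asIdeal := by
      have h1 := support_ex_subset hω (A ⧸ m) _ hq
      rwa [Module.mem_support_iff_of_finite, Ideal.annihilator_quotient] at h1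
    have hqP : q = P := PrimeSpectrum.ext ((hm.eq_of_le q.2.ne_top hmq).symm)
    subst hqP
    have := (mem_support_iff_deg hω P _).1 hq
    omega
  exact (Iso.homToEquiv (((shiftFunctorAdd' (Dual.D A) (n : ℤ) i ((n : ℤ) + i) rfl).app
    (Dual.inD A A)).symm)).subsingleton

/-- A smooth affine scheme over a field of relative dimension `n`. -/
theorem normPts_smooth {k : Type u} [Field k] {A : Type u} [CommRing A] [Algebra k A] [Algebra.Smooth k A]
    (n : ℕ) (h : SmoothOfRelativeDimension n (Spec.map (CommRingCat.ofHom (algebraMap k A)))) :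
    NormPts A ((Dual.inD A A)⟦(n : ℤ)⟧) := by
  haveI : IsRegularRing k := inferInstance
  haveI := H02CA.isRegularRing_of_smooth k A
  haveI : IsNoetherianRing A := Algebra.FiniteType.isNoetherianRing k A
  refine normPts_self_shift n (H4DR.Dualizing.ringKrullDim_lt_top_of_finiteType (A := k) (by
    rw [ringKrullDim_eq_zero_of_field]; exact WithBot.coe_lt_coe.2 (ENat.natCast_lt_top 0)))
    (fun p => IsRegularRing.isRegularLocalRing_localization p.asIdeal) fun m hm => ?_
  let s := Spec.map (CommRingCat.ofHom (algebraMap k A))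
  haveI : LocallyOfFiniteType s := (HasRingHomProperty.Spec_iff (P := @LocallyOfFiniteType)).mpr
    (RingHom.finiteType_algebraMap.mpr inferInstance)
  have h1 := H8Props.FieldDim.localDim_eq_of_smooth s n m
  have h2 : FlatMor.localDim (Spec (CommRingCat.of A)) m =
      (m.asIdeal.height : WithBot ℕ∞) + ringKrullDim (A ⧸ m.asIdeal) :=
    H8Props.FieldDim.localDim_chart s (A := A) (𝟙 _) m
  haveI := hm
  letI := Ideal.Quotient.field m.asIdeal
  rw [h1, ringKrullDim_eq_zero_of_field, add_zero] at h2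
  rw [IsLocalization.AtPrime.ringKrullDim_eq_height m.asIdeal]
  exact h2.symm

/-- Transfer along a closed immersion of affine schemes. -/
theorem normPts_rightAdjoint {A B : Type u} [CommRing A] [IsNoetherianRing A] [CommRing B] [IsNoetherianRing B]
    {U W : Scheme.{u}} [IsLocallyNoetherian W] (i : U ⟶ W) [IsClosedImmersion i] [DCoh.HasRpush i]
    {hf : DCoh.RpushPreservesQCoh i} {a : DCoh.DQCoh W ⥤ DCoh.DQCoh U} (adj : DCoh.RpushQ i hf ⊣ a) (K : DCoh.DQCoh W)
    (j : Spec (CommRingCat.of B) ⟶ U) [IsIso j] (c : Spec (CommRingCat.of A) ⟶ W) [IsIso c]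
    (ω : Dual.D B) (eω : (DCoh.tildeD (CommRingCat.of B)).obj ω ≅ (rd j).obj (a.obj K).obj)
    (ωA : Dual.D A) (eA : (DCoh.tildeD (CommRingCat.of A)).obj ωA ≅ (rd c).obj K.obj) (hA : NormPts A ωA) :
    NormPts B ω := by
  intro m hm d hd
  letI := Ideal.Quotient.field m
  let ψ : B →+* B ⧸ m := Ideal.Quotient.mk m
  let π := Spec.map (CommRingCat.ofHom ψ)
  haveI : IsClosedImmersion π := IsClosedImmersion.spec_of_surjective _ Ideal.Quotient.mk_surjective
  let φ : CommRingCat.of A ⟶ CommRingCat.of B := Spec.preimage (j ≫ i ≫ inv c)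
  have hφ : Spec.map φ = j ≫ i ≫ inv c := Spec.map_preimage _
  haveI : IsClosedImmersion (Spec.map φ) := by rw [hφ]; infer_instance
  have hφs : Function.Surjective φ.hom := by
    have h1 := (IsClosedImmersion.isAffine_surjective_of_isAffine (Spec.map φ)).2
    intro b
    obtain ⟨a, ha⟩ := h1 ((Scheme.ΓSpecIso (CommRingCat.of B)).inv b)
    refine ⟨(Scheme.ΓSpecIso (CommRingCat.of A)).hom a, ?_⟩
    show ((Scheme.ΓSpecIso (CommRingCat.of A)).hom ≫ φ).hom a = b
    rw [← Scheme.ΓSpecIso_naturality φ]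
    show (Scheme.ΓSpecIso (CommRingCat.of B)).hom ((Spec.map φ).appTop a) = b
    rw [ha]
    exact congr($((Scheme.ΓSpecIso (CommRingCat.of B)).inv_hom_id).hom b)
  let ψ' : A →+* B ⧸ m := ψ.comp φ.hom
  have hψ's : Function.Surjective ψ' := Ideal.Quotient.mk_surjective.comp hφs
  haveI : QuasiCompact (π ≫ j) := inferInstance
  haveI : QuasiSeparated (π ≫ j) := inferInstance
  haveI := H26Dual2.isLeftAdjoint_TD ψ
  haveI := H26Dual2.isLeftAdjoint_TD ψ'
  let adjψ := Adjunction.ofIsLeftAdjoint (H26Dual2.TD ψ)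
  let adjψ' := Adjunction.ofIsLeftAdjoint (H26Dual2.TD ψ')
  haveI : CompactSpace U := (Scheme.Hom.homeomorph j).compactSpace
  have hcl : ∀ {R S : Type u} [CommRing R] [Field S] (χ : R →+* S), Function.Surjective χ →
      IsClosed ({(Spec.map (CommRingCat.ofHom χ)).base default} : Set (Spec (CommRingCat.of R))) := fun χ hχ => by
    haveI : IsClosedImmersion (Spec.map (CommRingCat.ofHom χ)) := IsClosedImmersion.spec_of_surjective _ hχ
    have h1 := (Spec.map (CommRingCat.ofHom χ)).isClosedEmbedding.isClosed_range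
    rwa [show Set.range (Spec.map (CommRingCat.ofHom χ)).base = {(Spec.map (CommRingCat.ofHom χ)).base default} from
      Set.eq_singleton_iff_unique_mem.2 ⟨⟨default, rfl⟩, fun y ⟨z, hz⟩ => by rw [← hz, Subsingleton.elim z default]⟩]
      at h1
  obtain ⟨ε⟩ := H4RepDual.nonempty_iso_point adj c j ψ ψ'
    (by simpa using j.isClosedMap _ (hcl ψ Ideal.Quotient.mk_surjective))
    (by simpa using c.isClosedMap _ (hcl ψ' hψ's))
    (by
      show (π ≫ j) ≫ i = Spec.map (φ ≫ CommRingCat.ofHom ψ) ≫ c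
      rw [Spec.map_comp, hφ]; simp [π])
    K ω eω ωA eA adjψ adjψ'
  obtain ⟨e₁⟩ := nonempty_exPoint adjψ Ideal.Quotient.mk_surjective ω d
  obtain ⟨e₂⟩ := nonempty_exPoint adjψ' hψ's ωA d
  haveI : (RingHom.ker ψ').IsMaximal := RingHom.ker_isMaximal_of_surjective ψ' hψ's
  haveI : Subsingleton (Ex (Dual.inD A (A ⧸ RingHom.ker ψ')) ωA d) := hA _ ‹_› d hd
  haveI := e₂.subsingleton
  haveI : Subsingleton (Ex (Dual.inD (B ⧸ m) (B ⧸ m)) ((H26Dual2.TD ψ).rightAdjoint.obj ω) d) :=
    (Iso.homToEquiv ((shiftFunctor (Dual.D (B ⧸ m)) d).mapIso ε)).subsingleton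
  have h3 := e₁.symm.subsingleton
  rwa [Ideal.mk_ker] at h3

end Groth.Agent.LeadBrown.Rel
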