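import Groth.Agent.LeadBrown.ShriekFibre
import Groth.Agent.LeadBrown.Rel.SmoothDeg

/-!
# Normalised charts of the fibres of `f^!O`
-/

set_option autoImplicit false
set_option linter.style.haveILetI false
set_option linter.unusedSectionVars false
set_option backward.isDefEq.respectTransparency false
set_option maxHeartbeats 1600000

universe u

open CategoryTheory CategoryTheory.Limits AlgebraicGeometry

attribute [local instance] HasDerivedCategory.standard

namespace Groth.Agent.LeadBrown.Rel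

open Groth.Agent.H16Derived Groth.Agent.H16Derived.KFlat
open Groth.Agent.H16Derived.KFlat.Stalk (rd rdComp hasLpull)
open DerivedCategory.TStructure (t)

variable [∀ (U V : Scheme.{u}) (j : U ⟶ V) [IsOpenImmersion j], PreservesFiniteLimits (Scheme.Modules.restrictFunctor j)]
  [∀ (R : CommRingCat.{u}), PreservesFiniteLimits (tilde.functor R)]

variable {X Y : Scheme.{u}} [IsNoetherian X] [IsNoetherian Y] {f : X ⟶ Y}

/-- Charts of the fibres of `f^!O`, normalised at closed points. -/
theorem exists_fibre_chart [Flat f] [LocallyOfFinitePresentation f] (hf : MoreMor.IsPerfectMor f)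
    (c : DEt.Compactification f) [DCoh.HasRpush c.fbar] {hc : DCoh.RpushPreservesQCoh c.fbar}
    {a : DCoh.DQCoh Y ⥤ DCoh.DQCoh c.Xbar} (adj : DCoh.RpushQ c.fbar hc ⊣ a) (O : DCoh.DQCoh Y)
    (eO : O.obj ≅ DCoh.inD Y (Coh.structureModule Y)) (y : Y) [DCoh.HasLpull (f.fiberι y)] :
    ∀ z : f.fiber y, ∃ (A : Type u) (_ : CommRing A) (e : Spec (CommRingCat.of A) ⟶ f.fiber y) (_ : IsOpenImmersion e)
      (ω : Dual.D A) (_ : Dual.IsDualizing A ω), z ∈ Set.range e.base ∧ NormPts A ω ∧
        Nonempty ((rd e).obj ((DCoh.Lpull (f.fiberι y)).obj (haveI := c.isOpenImmersion; (rd c.j).obj (a.obj O).obj)) ≅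
          (DCoh.tildeD (CommRingCat.of A)).obj ω) := by
  haveI := c.isOpenImmersion
  haveI : IsLocallyNoetherian (f.fiber y) :=
    haveI : LocallyOfFiniteType (f.fiberToSpecResidueField y) :=
      inferInstanceAs (LocallyOfFiniteType (pullback.snd f (Y.fromSpecResidueField y)))
    LocallyOfFiniteType.isLocallyNoetherian (f.fiberToSpecResidueField y)
  intro z
  obtain ⟨U, j, hj, W, i, g, _, _, _, _, ⟨x, hx⟩, w, ⟨R, _, _, v, _, hgv⟩, _, hi', b, adjb, N, n, hn, hrel, H⟩ :=
    exists_local_model'' c adj ((f.fiberι y).base z)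
  haveI := hj
  obtain ⟨M, l, hl, ⟨eU⟩, -, hM⟩ := H O 0 (t.isGE_of_iso eO.symm 0)
  obtain ⟨eM⟩ := hM ⟨eO⟩
  have hxy : g.base (i.base x) = y := by
    have h1 : (i ≫ g).base x = (j ≫ f).base x := by rw [w]
    exact h1.trans ((congrArg f.base hx).trans (by
      have h2 : (f.fiberι y).base z ∈ Set.range (f.fiberι y).base := ⟨z, rfl⟩
      rw [Scheme.Hom.range_fiberι] at h2
      exact h2))
  -- the base, affine
  let gS : W ⟶ Spec (CommRingCat.of R) := IsOpenImmersion.lift v g hgv
  have hgS : gS ≫ v = g := IsOpenImmersion.lift_fac _ _ _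
  haveI : Smooth gS := by
    haveI : Smooth (gS ≫ v) := by rw [hgS]; infer_instance
    exact MorphismProperty.of_postcomp (W := @Smooth) (W' := @IsOpenImmersion) gS v inferInstance inferInstance
  let η : Spec (Y.residueField y) ⟶ Spec (CommRingCat.of R) :=
    IsOpenImmersion.lift v (Y.fromSpecResidueField y) (by
      rw [Scheme.range_fromSpecResidueField, Set.singleton_subset_iff, ← hxy]
      exact hgv ⟨_, rfl⟩)
  have hη : η ≫ v = Y.fromSpecResidueField y := IsOpenImmersion.lift_fac _ _ _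
  haveI : Flat (i ≫ gS) := by
    haveI : Flat ((i ≫ gS) ≫ v) := by rw [Category.assoc, hgS, w]; infer_instance
    exact MorphismProperty.of_postcomp (W := @Flat) (W' := @IsOpenImmersion) (i ≫ gS) v inferInstance inferInstance
  -- the chart of the fibre
  let W' := pullback gS η
  let gW : W' ⟶ W := pullback.fst gS η
  let g' : W' ⟶ Spec (Y.residueField y) := pullback.snd gS η
  have hW : IsPullback gW g' gS η := IsPullback.of_hasPullback _ _
  haveI : IsAffine W' := inferInstanceAs (IsAffine (pullback gS η))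
  haveI : IsLocallyNoetherian W' := LocallyOfFiniteType.isLocallyNoetherian g'
  haveI : IsNoetherian W' := { }
  haveI : Smooth g' := inferInstanceAs (Smooth (pullback.snd gS η))
  let U' := pullback i gW
  let pU : U' ⟶ U := pullback.fst i gW
  let i' : U' ⟶ W' := pullback.snd i gW
  have hU : IsPullback pU i' i gW := IsPullback.of_hasPullback _ _
  haveI : IsClosedImmersion i' := inferInstanceAs (IsClosedImmersion (pullback.snd i gW))
  haveI : IsAffine U := isAffine_of_isAffineHom i
  haveI : IsAffine U' := isAffine_of_isAffineHom i'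
  haveI : IsLocallyNoetherian U' := LocallyOfFiniteType.isLocallyNoetherian i'
  haveI : CompactSpace U := inferInstance
  haveI : QuasiSeparatedSpace U := inferInstance
  have hηv : IsPullback η (𝟙 _) v (η ≫ v) := by
    have h1 : IsPullback η (𝟙 _) (𝟙 (Spec (CommRingCat.of R))) η := IsPullback.of_vert_isIso ⟨by simp⟩
    have h2 : IsPullback (𝟙 (Spec (CommRingCat.of R))) (𝟙 _) v v := IsKernelPair.id_of_mono v
    simpa using h1.paste_horiz h2
  have hfU : IsPullback pU (i' ≫ g') (j ≫ f) (Y.fromSpecResidueField y) := by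
    have h1 := (hU.paste_vert hW).paste_vert hηv
    rw [Category.assoc i' g', Category.comp_id, hη, Category.assoc i gS, hgS, w] at h1
    exact h1
  have hF : IsPullback (f.fiberι y) (f.fiberToSpecResidueField y) f (Y.fromSpecResidueField y) :=
    IsPullback.of_hasPullback _ _
  let e : U' ⟶ f.fiber y := hF.lift (pU ≫ j) (i' ≫ g') (by rw [Category.assoc, hfU.w])
  have he1 : e ≫ f.fiberι y = pU ≫ j := hF.lift_fst _ _ _
  have he2 : e ≫ f.fiberToSpecResidueField y = i' ≫ g' := hF.lift_snd _ _ _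
  have hpe : IsPullback pU e j (f.fiberι y) := IsPullback.of_bot (by rw [he2]; exact hfU) he1.symm hF
  haveI : IsOpenImmersion e := MorphismProperty.of_isPullback hpe hj
  obtain ⟨u, hu⟩ : z ∈ Set.range e.base := by
    obtain ⟨u₀, hu₀⟩ : z ∈ Set.range (pullback.snd j (f.fiberι y)).base := by
      rw [Scheme.Pullback.range_snd]; exact ⟨x, hx⟩
    exact ⟨hpe.isoPullback.inv.base u₀, (congr($(hpe.isoPullback_inv_snd).base u₀)).trans hu₀⟩
  -- the base change
  haveI := QCohD.hasRpush i'
  haveI : QuasiCompact gW := quasiCompact_of_compactSpace gW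
  haveI : QuasiCompact pU := quasiCompact_of_compactSpace pU
  haveI := QCohD.hasRpush gW
  haveI := QCohD.hasRpush pU
  haveI := hasLpull gW
  haveI := hasLpull pU
  have hi'' : DCoh.RpushPreservesQCoh i' := fun K hK => QCohD.isQCohD_rpush i' hK
  have hgW : DCoh.RpushPreservesQCoh gW := fun K hK => QCohD.isQCohD_rpush gW hK
  have hpU : DCoh.RpushPreservesQCoh pU := fun K hK => QCohD.isQCohD_rpush pU hK
  have hLW : Dual3.LpullPreservesQCoh gW := fun K hK => QCohD.isQCohD_lpull gW hK
  have hLU : Dual3.LpullPreservesQCoh pU := fun K hK => QCohD.isQCohD_lpull pU hK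
  haveI := isLeftAdjoint_rpushQ i' hi''
  let adj' := Adjunction.ofIsLeftAdjoint (DCoh.RpushQ i' hi'')
  let φ₀ : CommRingCat.of R ⟶ Y.residueField y := Spec.preimage η
  have hTI := ti_of_flatOver φ₀ gS i gW g' (by rw [Spec.map_preimage]; exact hW)
  obtain ⟨e₁, hbp, -, hβ⟩ := exists_bcAdjoint hU hTI hi' hi'' adjb adj'
    (adjQ gW hLW hgW) (adjQ pU hLU hpU)
  have hpi : MoreMor.IsPerfectMor i := S1510.result i g (w.symm ▸ S1508.result j f (S7172.result j) hf)
  let β : (Dual3.LpullQ pU hLU).obj (b.obj M) ⟶ (DCoh.RpushQ i' hi'').rightAdjoint.obj ((Dual3.LpullQ gW hLW).obj M) :=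
    haveI := hbp (b.obj M)
    adj'.homEquiv _ _ (inv (Dual3.bcPush e₁ (adjQ gW hLW hgW) (adjQ pU hLU hpU) (b.obj M)) ≫
      (Dual3.LpullQ gW hLW).map (adjb.counit.app M))
  haveI : IsIso β := hβ M
    (fun Q hQ => hw_of_perfect (fun E hE => Exchange.isPerfect_rpush_of_perfectMor i hpi hE) M.property Q hQ) β (by
      haveI := hbp (b.obj M)
      exact (congrArg (Dual3.bcPush e₁ (adjQ gW hLW hgW) (adjQ pU hLU hpU) (b.obj M) ≫ ·)
        ((adj'.homEquiv_counit _ _ _).symm.trans (Equiv.symm_apply_apply _ _))).trans (IsIso.hom_inv_id_assoc _ _))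
  -- dualizing on the chart
  obtain ⟨e₂⟩ := RelTensor.nonempty_lpull_one gW (n : ℤ)
  subst hn
  have hW' : Dual2.IsDualizingSch W' ((Dual3.LpullQ gW hLW).obj M).obj :=
    isDualizingSch_smooth_field (k := Y.residueField y) g' (N : ℤ) _ ((DCoh.Lpull gW).mapIso eM ≪≫ e₂)
  have hU' := H4RepDual.isDualizingSch_rightAdjoint i' (hf := hi'') adj' _ hW'
  -- normalisation
  haveI hstab := smoothOfRelativeDimension_isStableUnderBaseChange (n := N)
  haveI : SmoothOfRelativeDimension N gS := by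
    have h1 : IsPullback (𝟙 W) gS g v := by
      have h2 : IsPullback (𝟙 W) gS gS (𝟙 (Spec (CommRingCat.of R))) := IsPullback.of_horiz_isIso ⟨by simp⟩
      have h3 : IsPullback (𝟙 (Spec (CommRingCat.of R))) (𝟙 _) v v := IsKernelPair.id_of_mono v
      simpa [hgS] using h2.paste_vert h3
    exact MorphismProperty.of_isPullback (P := @SmoothOfRelativeDimension N) h1 hrel
  haveI : SmoothOfRelativeDimension N g' := MorphismProperty.pullback_snd _ _ ‹SmoothOfRelativeDimension N gS›
  let A₀ : Type u := Γ(W', ⊤)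
  let c₀ : Spec (CommRingCat.of A₀) ⟶ W' := W'.isoSpec.inv
  let φ : CommRingCat.of (Y.residueField y) ⟶ CommRingCat.of A₀ := Spec.preimage (c₀ ≫ g')
  letI := φ.hom.toAlgebra
  have hφ : Spec.map (CommRingCat.ofHom (algebraMap (Y.residueField y) A₀)) = c₀ ≫ g' := Spec.map_preimage _
  haveI : Smooth (Spec.map (CommRingCat.ofHom (algebraMap (Y.residueField y) A₀))) := by rw [hφ]; infer_instance
  haveI : Algebra.Smooth (Y.residueField y) A₀ :=
    (HasRingHomProperty.Spec_iff (P := @Smooth)).1 ‹Smooth (Spec.map (CommRingCat.ofHom (algebraMap (Y.residueField y) A₀)))›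
  haveI : IsNoetherianRing A₀ := Algebra.FiniteType.isNoetherianRing (Y.residueField y) A₀
  have hA₀ : NormPts A₀ ((Dual.inD A₀ A₀)⟦(N : ℤ)⟧) := by
    refine normPts_smooth (k := Y.residueField y) N ?_
    rw [hφ]
    have : SmoothOfRelativeDimension (0 + N) (c₀ ≫ g') := inferInstance
    simpa using this
  let eA : (DCoh.tildeD (CommRingCat.of A₀)).obj ((Dual.inD A₀ A₀)⟦(N : ℤ)⟧) ≅
      (rd c₀).obj ((Dual3.LpullQ gW hLW).obj M).obj :=
    ((rd c₀).mapIso ((DCoh.Lpull gW).mapIso eM ≪≫ e₂) ≪≫ ((rd c₀).commShiftIso (N : ℤ)).app _ ≪≫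
      (shiftFunctor _ (N : ℤ)).mapIso (((Scheme.Modules.restrictFunctor c₀).mapDerivedCategorySingleFunctor 0).app
        (Coh.structureModule W') ≪≫ (DerivedCategory.singleFunctor _ 0).mapIso (Scheme.Modules.restrictUnitIso c₀) ≪≫
      H4RepDual.tildeUnit.symm) ≪≫ (((DCoh.tildeD (CommRingCat.of A₀)).commShiftIso (N : ℤ)).app _).symm).symm
  let A : Type u := Γ(U', ⊤)
  let k : Spec (CommRingCat.of A) ⟶ U' := U'.isoSpec.inv
  obtain ⟨ω, hω, ⟨eω⟩⟩ := hU' A k
  haveI : IsOpenImmersion (k ≫ e) := inferInstance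
  haveI := hasLpull pU
  obtain ⟨e₃⟩ := QCohD.lpull_factor (f.fiberι y) e pU j he1.symm ((rd c.j).obj (a.obj O).obj)
  haveI := hω.isNoetherianRing
  refine ⟨A, inferInstance, k ≫ e, inferInstance, ω, hω, ⟨U'.isoSpec.hom.base u, ?_⟩,
    normPts_rightAdjoint i' adj' _ k c₀ ω eω.symm _ eA hA₀, ⟨?_⟩⟩
  · rw [← hu]
    exact congr(e.base ($(U'.isoSpec.hom_inv_id).base u))
  · exact rdComp k e _ rfl _ ≪≫ (rd k).mapIso (e₃ ≪≫ (DCoh.Lpull pU).mapIso eU ≪≫
      (ObjectProperty.ι _).mapIso (asIso β)) ≪≫ eω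

end Groth.Agent.LeadBrown.Rel
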