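import Mathlib.RingTheory.Flat.Basic
import Mathlib.RingTheory.Flat.Tensor
import Mathlib.LinearAlgebra.TensorProduct.RightExactness
import Mathlib.RingTheory.Ideal.AssociatedPrime.Finiteness
import Mathlib.RingTheory.Nakayama
import Mathlib.RingTheory.Localization.Finiteness
import Mathlib.RingTheory.Localization.AtPrime.Basic
import Mathlib.RingTheory.LocalRing.ResidueField.Ideal

/-!
# Exactness of a complex of flat modules from a fibre

`A → B` rings, `q` a prime of `B` over `p`. For a three-term complex `P₀ → P₁ → P₂` of `B`-modules, flat over `A`,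
with `P₁` finite, exactness at `q` after `⊗_A κ(p)` implies exactness at `q` after `⊗_A N` for every finite `N`.
-/

set_option autoImplicit false
set_option linter.unusedSectionVars false
set_option linter.style.haveILetI false

universe u

open TensorProduct

namespace Groth.Agent.LeadBrown.Rel

variable {A B : Type u} [CommRing A] [CommRing B] [Algebra A B]
  {P₀ P₁ P₂ : Type u} [AddCommGroup P₀] [AddCommGroup P₁] [AddCommGroup P₂]
  [Module A P₀] [Module B P₀] [IsScalarTower A B P₀]
  [Module A P₁] [Module B P₁] [IsScalarTower A B P₁]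
  [Module A P₂] [Module B P₂] [IsScalarTower A B P₂]

/-- `f ⊗ N`, linear over `B`. -/
noncomputable abbrev tn (f : P₀ →ₗ[B] P₁) (N : Type u) [AddCommGroup N] [Module A N] :
    P₀ ⊗[A] N →ₗ[B] P₁ ⊗[A] N :=
  TensorProduct.AlgebraTensorModule.map f LinearMap.id

variable (A) in
/-- Exactness at `q` after tensoring with `N`. -/
def ExAt (f : P₀ →ₗ[B] P₁) (g : P₁ →ₗ[B] P₂) (q : Ideal B) (N : Type u) [AddCommGroup N] [Module A N] : Prop :=
  ∀ x : P₁ ⊗[A] N, tn g N x = 0 → ∃ s ∉ q, s • x ∈ LinearMap.range (tn f N)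

lemma tn_natural {N N' : Type u} [AddCommGroup N] [Module A N] [AddCommGroup N'] [Module A N']
    (f : P₀ →ₗ[B] P₁) (φ : N →ₗ[A] N') (x : P₀ ⊗[A] N) :
    tn f N' (φ.lTensor P₀ x) = φ.lTensor P₁ (tn f N x) := by
  induction x using TensorProduct.induction_on with
  | zero => simp
  | tmul p n => simp
  | add a b ha hb => simp only [map_add, ha, hb]

lemma lTensor_smul {P : Type u} [AddCommGroup P] [Module A P] [Module B P] [IsScalarTower A B P]
    {N N' : Type u} [AddCommGroup N] [Module A N] [AddCommGroup N'] [Module A N']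
    (φ : N →ₗ[A] N') (s : B) (x : P ⊗[A] N) : φ.lTensor P (s • x) = s • φ.lTensor P x := by
  induction x using TensorProduct.induction_on with
  | zero => simp
  | tmul p n => simp [TensorProduct.smul_tmul']
  | add a b ha hb => simp only [smul_add, map_add, ha, hb]

variable {f : P₀ →ₗ[B] P₁} {g : P₁ →ₗ[B] P₂} {q : Ideal B} [q.IsPrime]

theorem exAt_of_ses [Module.Flat A P₂] (hgf : g ∘ₗ f = 0) {N₁ N₂ N₃ : Type u} [AddCommGroup N₁] [Module A N₁]
    [AddCommGroup N₂] [Module A N₂] [AddCommGroup N₃] [Module A N₃] (ι : N₁ →ₗ[A] N₂) (π : N₂ →ₗ[A] N₃)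
    (hι : Function.Injective ι) (hπ : Function.Surjective π) (hex : Function.Exact ι π)
    (h₁ : ExAt A f g q N₁) (h₃ : ExAt A f g q N₃) : ExAt A f g q N₂ := by
  intro x hx
  obtain ⟨s, hs, y, hy⟩ := h₃ (π.lTensor P₁ x) (by rw [tn_natural, hx, map_zero])
  obtain ⟨y', rfl⟩ := π.lTensor_surjective P₀ hπ y
  have h0 : π.lTensor P₁ (s • x - tn f N₂ y') = 0 := by
    rw [map_sub, lTensor_smul, ← tn_natural, hy, sub_self]
  obtain ⟨x₁, hx₁⟩ := (lTensor_exact P₁ hex hπ _).1 h0
  have h1 : tn g N₁ x₁ = 0 := by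
    apply Module.Flat.lTensor_preserves_injective_linearMap (M := P₂) ι hι
    rw [← tn_natural, hx₁, map_zero, map_sub, map_smul, hx, smul_zero, zero_sub, neg_eq_zero]
    have h2 : ∀ z : P₀ ⊗[A] N₂, tn g N₂ (tn f N₂ z) = 0 := fun z => by
      induction z using TensorProduct.induction_on with
      | zero => simp
      | tmul p n => simp [show g (f p) = 0 from LinearMap.congr_fun hgf p]
      | add a b ha hb => simp only [map_add, ha, hb, add_zero]
    exact h2 y'
  obtain ⟨t, ht, z, hz⟩ := h₁ x₁ h1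
  refine ⟨t * s, fun h => ((Ideal.IsPrime.mem_or_mem ‹_› h).elim ht hs), t • y' + ι.lTensor P₀ z, ?_⟩
  rw [map_add, map_smul, tn_natural, hz, lTensor_smul, hx₁, smul_sub, mul_smul, add_sub_cancel]

lemma tn_comp (hgf : g ∘ₗ f = 0) (N : Type u) [AddCommGroup N] [Module A N] (z : P₀ ⊗[A] N) :
    tn g N (tn f N z) = 0 := by
  induction z using TensorProduct.induction_on with
  | zero => simp
  | tmul p n => simp [show g (f p) = 0 from LinearMap.congr_fun hgf p]
  | add a b ha hb => simp only [map_add, ha, hb, add_zero]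

lemma tensor_eq_zero {P : Type u} [AddCommGroup P] [Module A P] {N : Type u} [AddCommGroup N] [Module A N]
    [Subsingleton N] (x : P ⊗[A] N) : x = 0 := by
  induction x using TensorProduct.induction_on with
  | zero => rfl
  | tmul p n => rw [Subsingleton.elim n 0, TensorProduct.tmul_zero]
  | add a b ha hb => rw [ha, hb, add_zero]

lemma tensor_smul_eq_zero {P : Type u} [AddCommGroup P] [Module A P] {N : Type u} [AddCommGroup N] [Module A N]
    (r : A) (h : ∀ n : N, r • n = 0) (x : P ⊗[A] N) : r • x = 0 := by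
  induction x using TensorProduct.induction_on with
  | zero => rw [smul_zero]
  | tmul p n => rw [← TensorProduct.tmul_smul, h, TensorProduct.tmul_zero]
  | add a b ha hb => rw [smul_add, ha, hb, add_zero]

theorem exAt_of_subsingleton (N : Type u) [AddCommGroup N] [Module A N] [Subsingleton N] : ExAt A f g q N :=
  fun x _ => ⟨1, fun h => (Ideal.IsPrime.ne_top ‹_›) ((Ideal.eq_top_iff_one q).2 h), 0, by
    rw [map_zero, one_smul]
    exact (tensor_eq_zero x).symm⟩

theorem exAt_congr {N N' : Type u} [AddCommGroup N] [Module A N] [AddCommGroup N'] [Module A N'] (e : N ≃ₗ[A] N')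
    (h : ExAt A f g q N) : ExAt A f g q N' := by
  intro x hx
  obtain ⟨s, hs, y, hy⟩ := h (e.symm.toLinearMap.lTensor P₁ x) (by rw [tn_natural, hx, map_zero])
  refine ⟨s, hs, e.toLinearMap.lTensor P₀ y, ?_⟩
  rw [tn_natural, hy, lTensor_smul, ← LinearMap.lTensor_comp_apply]
  simp

/-- An annihilated module whose annihilator leaves `q`. -/
theorem exAt_of_smul_eq_zero (N : Type u) [AddCommGroup N] [Module A N] (r : A) (hr : algebraMap A B r ∉ q)
    (h : ∀ n : N, r • n = 0) : ExAt A f g q N :=
  fun x _ => ⟨algebraMap A B r, hr, 0, by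
    rw [map_zero, algebraMap_smul]
    exact (tensor_smul_eq_zero r h x).symm⟩

/-- An element of `k` is a fraction of elements of `A`. -/
def IsFrac (A k : Type u) [CommRing A] [Field k] [Algebra A k] : Prop :=
  ∀ c : k, ∃ a : A, algebraMap A k a ≠ 0 ∧ ∃ n : A, a • c = algebraMap A k n

/-- The fibre gives the quotient by the kernel. -/
theorem exAt_quotient_of_fibre [Module.Flat A P₁] {k : Type u} [Field k] [Algebra A k] (hk : IsFrac A k)
    (hp : q.comap (algebraMap A B) = RingHom.ker (algebraMap A k)) (h : ExAt A f g q k) :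
    ExAt A f g q (A ⧸ RingHom.ker (algebraMap A k)) := by
  let ι : (A ⧸ RingHom.ker (algebraMap A k)) →ₗ[A] k :=
    Submodule.liftQ _ (Algebra.linearMap A k) fun a ha => ha
  have hι : Function.Injective ι := by
    refine (injective_iff_map_eq_zero ι).2 fun n hn => ?_
    obtain ⟨n, rfl⟩ := Submodule.Quotient.mk_surjective _ n
    exact (Submodule.Quotient.mk_eq_zero _).2 hn
  have hclear : ∀ y : P₀ ⊗[A] k, ∃ a : A, algebraMap A k a ≠ 0 ∧ ∃ z, a • y = ι.lTensor P₀ z := by
    intro y
    induction y using TensorProduct.induction_on with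
    | zero => exact ⟨1, by simp, 0, by simp⟩
    | tmul x c =>
      obtain ⟨a, ha, n, e⟩ := hk c
      exact ⟨a, ha, x ⊗ₜ Submodule.Quotient.mk n, by
        rw [LinearMap.lTensor_tmul, ← TensorProduct.tmul_smul, e]; rfl⟩
    | add y₁ y₂ h₁ h₂ =>
      obtain ⟨a₁, ha₁, z₁, e₁⟩ := h₁
      obtain ⟨a₂, ha₂, z₂, e₂⟩ := h₂
      exact ⟨a₁ * a₂, by rw [map_mul]; exact mul_ne_zero ha₁ ha₂, a₂ • z₁ + a₁ • z₂, by
        rw [map_add, map_smul, map_smul, ← e₁, ← e₂, smul_add, smul_smul, smul_smul, mul_comm a₂]⟩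
  intro x hx
  obtain ⟨s, hs, y, hy⟩ := h (ι.lTensor P₁ x) (by rw [tn_natural, hx, map_zero])
  obtain ⟨a, ha, z, hz⟩ := hclear y
  have hq : algebraMap A B a ∉ q := fun h' => ha (RingHom.mem_ker.1 (hp ▸ h'))
  refine ⟨algebraMap A B a * s, fun h' => (Ideal.IsPrime.mem_or_mem ‹_› h').elim hq hs, z, ?_⟩
  apply Module.Flat.lTensor_preserves_injective_linearMap (M := P₁) ι hι
  rw [← tn_natural, ← hz, LinearMap.map_smul_of_tower, hy, lTensor_smul, mul_smul, algebraMap_smul]

/-- Nakayama at `q`. -/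
theorem exists_smul_eq_zero_of_le {H : Type u} [AddCommGroup H] [Module B H] [Module.Finite B H] {x : B}
    (hx : x ∈ q) (hH : ∀ h : H, ∃ s ∉ q, ∃ h' : H, s • h = x • h') (h : H) : ∃ s ∉ q, s • h = 0 := by
  let L := LocalizedModule q.primeCompl H
  haveI : Module.Finite (Localization.AtPrime q) L :=
    Module.Finite.of_isLocalizedModule q.primeCompl (Rₚ := Localization.AtPrime q)
      (LocalizedModule.mkLinearMap q.primeCompl H)
  have htop : (⊤ : Submodule (Localization.AtPrime q) L) ≤
      IsLocalRing.maximalIdeal (Localization.AtPrime q) • ⊤ := by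
    rintro z -
    induction z using LocalizedModule.induction_on with
    | _ m t =>
      obtain ⟨s, hs, m', e⟩ := hH m
      have hz : LocalizedModule.mk m t =
          algebraMap B (Localization.AtPrime q) x • LocalizedModule.mk m' (⟨s, hs⟩ * t) := by
        rw [algebraMap_smul, LocalizedModule.smul'_mk, ← e]
        exact (LocalizedModule.mk_cancel_common_left ⟨s, hs⟩ t m).symm
      rw [hz]
      exact Submodule.smul_mem_smul ((IsLocalization.AtPrime.to_map_mem_maximal_iff _ q x).2 hx) trivial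
  have hbot := Submodule.eq_bot_of_le_smul_of_le_jacobson_bot _ _ Module.Finite.fg_top htop
    (IsLocalRing.maximalIdeal_le_jacobson _)
  have h0 : LocalizedModule.mk h (1 : q.primeCompl) = 0 :=
    (Submodule.mem_bot (Localization.AtPrime q)).1 (hbot ▸ Submodule.mem_top (x := LocalizedModule.mk h 1))
  obtain ⟨s, hs⟩ := (LocalizedModule.mk_eq.1 (h0.trans (LocalizedModule.zero_mk 1).symm))
  exact ⟨s, s.2, by simpa [Submonoid.smul_def] using hs⟩

/-- **Exactness after tensoring with any finite module, from the fibre.** -/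
theorem exAt_of_fibre [IsNoetherianRing A] [IsNoetherianRing B] [Module.Flat A P₁] [Module.Flat A P₂]
    [Module.Finite B P₁] (hgf : g ∘ₗ f = 0) {k : Type u} [Field k] [Algebra A k] (hk : IsFrac A k)
    (hp : q.comap (algebraMap A B) = RingHom.ker (algebraMap A k)) (h : ExAt A f g q k) (N : Type u) [AddCommGroup N] [Module A N] [Module.Finite A N] :
    ExAt A f g q N := by
  suffices H : ∀ J : Ideal A, J.IsPrime → ExAt A f g q (A ⧸ J) by
    refine IsNoetherianRing.induction_on_isQuotientEquivQuotientPrime A ‹Module.Finite A N›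
      (motive := fun N _ _ _ => ExAt A f g q N) (fun N _ _ _ _ => exAt_of_subsingleton N)
      (fun N _ _ _ P e => exAt_congr e.symm (H P.1 P.2)) ?_
    intro N₁ _ _ _ N₂ _ _ _ N₃ _ _ _ ι π hι hπ hex h₁ h₃
    exact exAt_of_ses hgf ι π hι hπ hex h₁ h₃
  intro J
  induction J using WellFoundedGT.induction with
  | _ J ih =>
    intro hJ
    let p : Ideal A := RingHom.ker (algebraMap A k)
    have hnle : ∀ I : Ideal A, ¬ I ≤ p → ExAt A f g q (A ⧸ I) := fun I hI => by
      obtain ⟨r, hrI, hrp⟩ := Set.not_subset.1 hI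
      exact exAt_of_smul_eq_zero _ r (fun h1 => hrp (hp.le h1)) fun n => by
        obtain ⟨n, rfl⟩ := Ideal.Quotient.mk_surjective n
        rw [Algebra.smul_def, Ideal.Quotient.algebraMap_eq, Ideal.Quotient.eq_zero_iff_mem.2 hrI, zero_mul]
    by_cases hle : J ≤ p
    swap
    · exact hnle J hle
    rcases hle.eq_or_lt with rfl | hlt
    · exact exAt_quotient_of_fibre hk hp h
    obtain ⟨x, hxp, hxJ⟩ := SetLike.exists_of_lt hlt
    let K : Ideal A := J ⊔ Ideal.span {x}
    have hxK : x ∈ K := Ideal.mem_sup_right (Ideal.mem_span_singleton_self x)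
    -- modules killed by `K`
    have hK : ExAt A f g q (A ⧸ K) := by
      refine (IsNoetherianRing.induction_on_isQuotientEquivQuotientPrime A
        (inferInstance : Module.Finite A (A ⧸ K))
        (motive := fun N _ _ _ => (∀ r ∈ K, ∀ n : N, r • n = 0) → ExAt A f g q N)
        (fun N _ _ _ _ _ => exAt_of_subsingleton N) (fun N _ _ _ P e hN => exAt_congr e.symm (ih P.1 ?_ P.2))
        (fun N₁ _ _ _ N₂ _ _ _ N₃ _ _ _ ι π hι hπ hex h₁ h₃ hN => exAt_of_ses hgf ι π hι hπ hex
          (h₁ fun r hr n => hι (by rw [map_smul, hN r hr, map_zero]))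
          (h₃ fun r hr n => by obtain ⟨n, rfl⟩ := hπ n; rw [← map_smul, hN r hr, map_zero]))) fun r hr n => by
          obtain ⟨n, rfl⟩ := Ideal.Quotient.mk_surjective n
          rw [Algebra.smul_def, Ideal.Quotient.algebraMap_eq, Ideal.Quotient.eq_zero_iff_mem.2 hr, zero_mul]
      have hKP : K ≤ P.1 := fun r hr => by
        have h1 : r • (Submodule.Quotient.mk (1 : A) : A ⧸ P.1) = 0 := by
          rw [← e.apply_symm_apply (Submodule.Quotient.mk 1), ← map_smul, hN r hr, map_zero]
        rwa [← Submodule.Quotient.mk_smul, Submodule.Quotient.mk_eq_zero, smul_eq_mul, mul_one] at h1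
      exact lt_of_lt_of_le (lt_of_le_of_ne le_sup_left fun he => hxJ (he.ge hxK)) hKP
    -- multiplication by `x`
    let μ : (A ⧸ J) →ₗ[A] (A ⧸ J) := x • LinearMap.id
    let π : (A ⧸ J) →ₗ[A] (A ⧸ K) := Submodule.factor le_sup_left
    have hπ : Function.Surjective π := Submodule.factor_surjective _
    have hμ : Function.Injective μ := (injective_iff_map_eq_zero μ).2 fun n hn => by
      obtain ⟨n, rfl⟩ := Submodule.Quotient.mk_surjective _ n
      rw [LinearMap.smul_apply, LinearMap.id_apply, ← Submodule.Quotient.mk_smul,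
        Submodule.Quotient.mk_eq_zero] at hn
      exact (Submodule.Quotient.mk_eq_zero _).2 ((hJ.mem_or_mem hn).resolve_left hxJ)
    have hex : Function.Exact μ π := fun n => by
      obtain ⟨n, rfl⟩ := Submodule.Quotient.mk_surjective _ n
      rw [show π (Submodule.Quotient.mk n) = Submodule.Quotient.mk n from rfl, Submodule.Quotient.mk_eq_zero]
      refine ⟨fun hn => ?_, fun ⟨m, hm⟩ => ?_⟩
      · obtain ⟨j, hj, c, hc, rfl⟩ := Submodule.mem_sup.1 hn
        obtain ⟨d, rfl⟩ := Ideal.mem_span_singleton.1 hc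
        refine ⟨Submodule.Quotient.mk d, ?_⟩
        rw [LinearMap.smul_apply, LinearMap.id_apply, ← Submodule.Quotient.mk_smul, Submodule.Quotient.eq]
        simpa [smul_eq_mul] using neg_mem hj
      · obtain ⟨m, rfl⟩ := Submodule.Quotient.mk_surjective _ m
        rw [LinearMap.smul_apply, LinearMap.id_apply, ← Submodule.Quotient.mk_smul, Submodule.Quotient.eq] at hm
        have h1 : x • m ∈ K := Ideal.mul_mem_right m _ hxK
        have h2 := sub_mem h1 (Ideal.mem_sup_left (T := Ideal.span {x}) hm)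
        rwa [sub_sub_cancel] at h2
    let Z : Submodule B (P₁ ⊗[A] (A ⧸ J)) := LinearMap.ker (tn g (A ⧸ J))
    let R : Submodule B Z := (LinearMap.range (tn f (A ⧸ J))).comap Z.subtype
    haveI : Module.Finite B (P₁ ⊗[A] (A ⧸ J)) := by
      refine Module.Finite.of_surjective
        ((TensorProduct.AlgebraTensorModule.map (LinearMap.id : P₁ →ₗ[B] P₁) (Algebra.linearMap A (A ⧸ J))) ∘ₗ
          (TensorProduct.AlgebraTensorModule.rid A B P₁).symm.toLinearMap) ?_
      have h1 : Function.Surjective ((Algebra.linearMap A (A ⧸ J)).lTensor P₁) :=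
        LinearMap.lTensor_surjective _ Ideal.Quotient.mk_surjective
      exact h1.comp (TensorProduct.AlgebraTensorModule.rid A B P₁).symm.surjective
    haveI : IsNoetherian B (P₁ ⊗[A] (A ⧸ J)) := isNoetherian_of_isNoetherianRing_of_finite B _
    have hxq : algebraMap A B x ∈ q := (hp.ge hxp :)
    have hμP : ∀ {P : Type u} [AddCommGroup P] [Module A P] [Module B P] [IsScalarTower A B P]
        (z : P ⊗[A] (A ⧸ J)), μ.lTensor P z = algebraMap A B x • z := fun {P} _ _ _ _ z => by
      rw [algebraMap_smul, LinearMap.lTensor_smul, LinearMap.lTensor_id]; rfl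
    have key : ∀ h : Z ⧸ R, ∃ s ∉ q, ∃ h' : Z ⧸ R, s • h = algebraMap A B x • h' := by
      intro h
      obtain ⟨⟨z, hz⟩, rfl⟩ := Submodule.Quotient.mk_surjective _ h
      obtain ⟨s, hs, w, hw⟩ := hK (π.lTensor P₁ z) (by
        rw [tn_natural, LinearMap.mem_ker.1 hz, map_zero])
      obtain ⟨w', rfl⟩ := π.lTensor_surjective P₀ hπ w
      have h0 : π.lTensor P₁ (s • z - tn f _ w') = 0 := by
        rw [map_sub, lTensor_smul, ← tn_natural, hw, sub_self]
      obtain ⟨z', hz'⟩ := (lTensor_exact P₁ hex hπ _).1 h0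
      have hz'k : tn g _ z' = 0 := by
        apply Module.Flat.lTensor_preserves_injective_linearMap (M := P₂) μ hμ
        rw [← tn_natural, hz', map_zero, map_sub, map_smul, LinearMap.mem_ker.1 hz, smul_zero, tn_comp hgf,
          sub_zero]
      refine ⟨s, hs, Submodule.Quotient.mk ⟨z', hz'k⟩, ?_⟩
      rw [← Submodule.Quotient.mk_smul, ← Submodule.Quotient.mk_smul, Submodule.Quotient.eq]
      refine ⟨w', ?_⟩
      show tn f _ w' = s • z - algebraMap A B x • z'
      rw [← hμP, hz', sub_sub_cancel]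
    intro z hz
    obtain ⟨s, hs, h0⟩ := exists_smul_eq_zero_of_le hxq key (Submodule.Quotient.mk ⟨z, LinearMap.mem_ker.2 hz⟩)
    rw [← Submodule.Quotient.mk_smul, Submodule.Quotient.mk_eq_zero] at h0
    exact ⟨s, hs, h0⟩

/-- The cokernel is flat at `q`. -/
theorem cokernel_flat_at [IsNoetherianRing A] [IsNoetherianRing B] [Module.Flat A P₁] [Module.Flat A P₂]
    [Module.Finite B P₁] (hgf : g ∘ₗ f = 0) {k : Type u} [Field k] [Algebra A k] (hk : IsFrac A k)
    (hp : q.comap (algebraMap A B) = RingHom.ker (algebraMap A k)) (h : ExAt A f g q k) (I : Ideal A) (z : P₂ ⊗[A] I)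
    (hz : I.subtype.lTensor P₂ z ∈ LinearMap.range (tn g A)) :
    ∃ s ∉ q, s • z ∈ LinearMap.range (tn g I) := by
  obtain ⟨y, hy⟩ := hz
  let π : A →ₗ[A] (A ⧸ I) := Submodule.mkQ I
  have hex : Function.Exact (I.subtype : I →ₗ[A] A) π := LinearMap.exact_subtype_mkQ I
  obtain ⟨s, hs, w, hw⟩ := exAt_of_fibre hgf hk hp h (A ⧸ I) (π.lTensor P₁ y) (by
    rw [tn_natural, hy, ← LinearMap.lTensor_comp_apply, hex.linearMap_comp_eq_zero, LinearMap.lTensor_zero,
      LinearMap.zero_apply])
  obtain ⟨w', rfl⟩ := π.lTensor_surjective P₀ (Submodule.mkQ_surjective I) w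
  obtain ⟨y', hy'⟩ := (lTensor_exact P₁ hex (Submodule.mkQ_surjective I) (s • y - tn f A w')).1 (by
    rw [map_sub, lTensor_smul, ← tn_natural, hw, sub_self])
  refine ⟨s, hs, y', ?_⟩
  apply Module.Flat.lTensor_preserves_injective_linearMap (M := P₂) I.subtype Subtype.val_injective
  rw [← tn_natural, hy', map_sub, map_smul, hy, tn_comp hgf, sub_zero, lTensor_smul]

end Groth.Agent.LeadBrown.Rel
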