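import Groth.Agent.LeadBrown.Rel.Link
import Mathlib.RingTheory.Localization.BaseChange

/-!
# A free generator of the cohomology at a point, lifted from the fibre
-/

set_option autoImplicit false
set_option linter.unusedSectionVars false
set_option linter.style.haveILetI false
set_option maxHeartbeats 1000000
set_option backward.isDefEq.respectTransparency false
set_option backward.isDefEq.respectTransparency.types false

universe u

open CategoryTheory CategoryTheory.Limits TensorProduct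

attribute [local instance] HasDerivedCategory.standard

namespace Groth.Agent.LeadBrown.Rel

section FreeRankOne

variable {C : Type u} [CommRing C] (Q : Ideal C) [Q.IsPrime] {M : Type u} [AddCommGroup M] [Module C M]

/-- `m` is a free generator of `M` at `Q`. -/
def IsFreeGen (m : M) : Prop :=
  (∀ w : M, ∃ s ∉ Q, ∃ b : C, s • w = b • m) ∧ ∀ b : C, b • m = 0 → ∃ s ∉ Q, s * b = 0

/-- A rank one localisation has a free generator in the module. -/
theorem exists_isFreeGen (e : Localization.AtPrime Q ⊗[C] M ≃ₗ[Localization.AtPrime Q] Localization.AtPrime Q) :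
    ∃ m : M, IsFreeGen Q m := by
  let μ : M →ₗ[C] Localization.AtPrime Q ⊗[C] M := TensorProduct.mk C (Localization.AtPrime Q) M 1
  haveI hμ : IsLocalizedModule Q.primeCompl μ :=
    (isLocalizedModule_iff_isBaseChange Q.primeCompl (Localization.AtPrime Q) μ).2 (TensorProduct.isBaseChange C M _)
  obtain ⟨⟨m, t⟩, ht⟩ := IsLocalizedModule.surj Q.primeCompl μ (e.symm 1)
  have hes : ∀ (b : C) (y : Localization.AtPrime Q ⊗[C] M),
      e (b • y) = algebraMap C (Localization.AtPrime Q) b * e y := fun b y => by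
    rw [← algebraMap_smul (Localization.AtPrime Q) b y, map_smul, smul_eq_mul]
  have hm : e (μ m) = algebraMap C (Localization.AtPrime Q) (t : C) := by
    rw [← show (t : C) • e.symm 1 = μ m from ht, hes, e.apply_symm_apply, mul_one]
  have hu : IsUnit (algebraMap C (Localization.AtPrime Q) (t : C)) := IsLocalization.map_units _ t
  refine ⟨m, fun w => ?_, fun b hb => ?_⟩
  · obtain ⟨⟨b, s⟩, hbs⟩ := IsLocalization.surj Q.primeCompl (e (μ w))
    have h1 : μ (((t : C) * (s : C)) • w) = μ (b • m) := by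
      apply e.injective
      rw [map_smul μ, map_smul μ, hes, hes, hm, map_mul, mul_assoc, mul_comm (algebraMap C _ (s : C)), hbs,
        mul_comm]
    obtain ⟨r, hr⟩ := IsLocalizedModule.exists_of_eq (S := Q.primeCompl) h1
    exact ⟨(r : C) * ((t : C) * s), fun h => ((Ideal.IsPrime.mem_or_mem ‹_› h).elim r.2
      fun h' => (Ideal.IsPrime.mem_or_mem ‹_› h').elim t.2 s.2), (r : C) * b, by
      rw [mul_smul, mul_smul (r : C) b]; exact hr⟩
  · have h1 : algebraMap C (Localization.AtPrime Q) b * algebraMap C _ (t : C) = 0 := by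
      rw [← hm, ← hes, ← map_smul μ, hb, map_zero, map_zero]
    obtain ⟨s, hs⟩ := (IsLocalization.map_eq_zero_iff Q.primeCompl (Localization.AtPrime Q) b).1
      (hu.mul_left_eq_zero.1 h1)
    exact ⟨s, s.2, hs⟩

/-- A free generator gives rank one. -/
theorem IsFreeGen.nonempty_equiv {m : M} (h : IsFreeGen Q m) :
    Nonempty (Localization.AtPrime Q ⊗[C] M ≃ₗ[Localization.AtPrime Q] Localization.AtPrime Q) := by
  let μ : M →ₗ[C] Localization.AtPrime Q ⊗[C] M := TensorProduct.mk C (Localization.AtPrime Q) M 1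
  haveI hμ : IsLocalizedModule Q.primeCompl μ :=
    (isLocalizedModule_iff_isBaseChange Q.primeCompl (Localization.AtPrime Q) μ).2 (TensorProduct.isBaseChange C M _)
  let φ : Localization.AtPrime Q →ₗ[Localization.AtPrime Q] Localization.AtPrime Q ⊗[C] M :=
    LinearMap.toSpanSingleton _ _ (μ m)
  refine ⟨(LinearEquiv.ofBijective φ ⟨?_, ?_⟩).symm⟩
  · refine (injective_iff_map_eq_zero φ).2 fun c hc => ?_
    obtain ⟨⟨b, s⟩, hbs⟩ := IsLocalization.surj Q.primeCompl c
    have h1 : μ (b • m) = 0 := by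
      rw [map_smul, ← algebraMap_smul (Localization.AtPrime Q) b (μ m), ← hbs, mul_comm, mul_smul]
      show algebraMap C _ (s : C) • φ c = 0
      rw [hc, smul_zero]
    obtain ⟨r, hr⟩ := (IsLocalizedModule.eq_zero_iff Q.primeCompl μ).1 h1
    obtain ⟨r', hr', hb⟩ := h.2 ((r : C) * b) (by rw [mul_smul]; exact hr)
    have h2 : algebraMap C (Localization.AtPrime Q) (r' * (r : C)) * algebraMap C _ b = 0 := by
      rw [← map_mul, mul_assoc, hb, map_zero]
    have h3 : IsUnit (algebraMap C (Localization.AtPrime Q) (r' * (r : C))) :=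
      IsLocalization.map_units _ (⟨r', hr'⟩ * r : Q.primeCompl)
    have h4 := h3.mul_right_eq_zero.1 h2
    rw [← hbs] at h4
    exact (IsLocalization.map_units (Localization.AtPrime Q) s).mul_left_eq_zero.1 h4
  · intro x
    obtain ⟨⟨w, s⟩, hws⟩ := IsLocalizedModule.surj Q.primeCompl μ x
    obtain ⟨r, hr, b, hb⟩ := h.1 w
    have hu : IsUnit (algebraMap C (Localization.AtPrime Q) (r * (s : C))) :=
      IsLocalization.map_units _ (⟨r, hr⟩ * s : Q.primeCompl)
    refine ⟨algebraMap C (Localization.AtPrime Q) b * ↑hu.unit⁻¹, ?_⟩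
    have h1 : algebraMap C (Localization.AtPrime Q) (r * (s : C)) • x = algebraMap C (Localization.AtPrime Q) b • μ m := by
      rw [algebraMap_smul, algebraMap_smul, mul_smul, show (s : C) • x = μ w from hws, ← map_smul, hb, map_smul]
    show (algebraMap C (Localization.AtPrime Q) b * ↑hu.unit⁻¹) • μ m = x
    rw [mul_comm, mul_smul, ← h1, ← mul_smul, IsUnit.val_inv_mul, one_smul]

end FreeRankOne

attribute [local instance] modA towerA

variable {A B : Type u} [CommRing A] [CommRing B] [Algebra A B]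

/-- `x` is a free generator of `H^c(P)` at `q`. -/
def IsGen (P : DRing.Cx B) (c : ℤ) (q : Ideal B) (x : P.X c) : Prop :=
  df P c (c + 1) x = 0 ∧
    (∀ w : P.X c, df P c (c + 1) w = 0 → ∃ s ∉ q, ∃ b : B, s • w - b • x ∈ LinearMap.range (df P (c - 1) c)) ∧
    ∀ b : B, b • x ∈ LinearMap.range (df P (c - 1) c) → ∃ s ∉ q, s * b = 0

theorem exists_isGen (P : DRing.Cx B) (c : ℤ) (q : PrimeSpectrum B)
    (e : Localization.AtPrime q.asIdeal ⊗[B] Dual.HD B (DRing.toD P) c ≃ₗ[Localization.AtPrime q.asIdeal]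
      Localization.AtPrime q.asIdeal) : ∃ x, IsGen P c q.asIdeal x := by
  obtain ⟨eH⟩ := nonempty_homology_equiv P c
  obtain ⟨m, h1, h2⟩ := exists_isFreeGen q.asIdeal
    ((LinearEquiv.baseChange B (Localization.AtPrime q.asIdeal) _ _ eH.symm).trans e)
  obtain ⟨m, hm⟩ := m
  obtain ⟨x, rfl⟩ := Submodule.mkQ_surjective _ m
  refine ⟨x, hm, fun w hw => ?_, fun b hb => ?_⟩
  · obtain ⟨s, hs, b, e'⟩ := h1 ⟨Submodule.Quotient.mk w, LinearMap.mem_ker.2 hw⟩
    exact ⟨s, hs, b, (Submodule.Quotient.eq _).1 (((Submodule.Quotient.mk_smul _ s w).trans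
      (congrArg Subtype.val e')).trans (Submodule.Quotient.mk_smul _ b x).symm)⟩
  · exact h2 b (Subtype.ext ((Submodule.Quotient.mk_smul _ b x).symm.trans ((Submodule.Quotient.mk_eq_zero _).2 hb)))

theorem IsGen.nonempty_equiv {P : DRing.Cx B} {c : ℤ} {q : PrimeSpectrum B} {x : P.X c}
    (h : IsGen P c q.asIdeal x) :
    Nonempty (Localization.AtPrime q.asIdeal ⊗[B] Dual.HD B (DRing.toD P) c ≃ₗ[Localization.AtPrime q.asIdeal]
      Localization.AtPrime q.asIdeal) := by
  obtain ⟨eH⟩ := nonempty_homology_equiv P c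
  obtain ⟨hx, h1, h2⟩ := h
  have hg : IsFreeGen q.asIdeal (M := LinearMap.ker ((LinearMap.range (df P (c - 1) c)).liftQ (df P c (c + 1))
      (LinearMap.range_le_ker_iff.2 (df_comp P (c - 1) c (c + 1)))))
      ⟨Submodule.Quotient.mk x, LinearMap.mem_ker.2 hx⟩ := by
    refine ⟨fun ⟨w, hw⟩ => ?_, fun b hb => h2 b ?_⟩
    · obtain ⟨w, rfl⟩ := Submodule.mkQ_surjective _ w
      obtain ⟨s, hs, b, e'⟩ := h1 w hw
      exact ⟨s, hs, b, Subtype.ext ((Submodule.Quotient.mk_smul _ s w).symm.trans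
        (((Submodule.Quotient.eq _).2 e').trans (Submodule.Quotient.mk_smul _ b x)))⟩
    · exact (Submodule.Quotient.mk_eq_zero _).1 ((Submodule.Quotient.mk_smul _ b x).trans (congrArg Subtype.val hb))
  obtain ⟨e⟩ := IsFreeGen.nonempty_equiv q.asIdeal hg
  exact ⟨(LinearEquiv.baseChange B (Localization.AtPrime q.asIdeal) _ _ eH).trans e⟩

variable {k : Type u} [Field k] [Algebra A k]

/-- Clearing denominators in the fibre ring. -/
theorem exists_clear (hk : IsFrac A k) (c : B ⊗[A] k) :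
    ∃ a : A, algebraMap A k a ≠ 0 ∧ ∃ b : B, a • c = algebraMap B (B ⊗[A] k) b := by
  induction c using TensorProduct.induction_on with
  | zero => exact ⟨1, by simp, 0, by simp⟩
  | tmul b z =>
    obtain ⟨a, ha, n, e⟩ := hk z
    refine ⟨a, ha, n • b, ?_⟩
    rw [← TensorProduct.tmul_smul, e, Algebra.algebraMap_eq_smul_one, TensorProduct.tmul_smul]
    rfl
  | add u v hu hv =>
    obtain ⟨a₁, ha₁, b₁, e₁⟩ := hu
    obtain ⟨a₂, ha₂, b₂, e₂⟩ := hv
    refine ⟨a₁ * a₂, by rw [map_mul]; exact mul_ne_zero ha₁ ha₂, a₂ • b₁ + a₁ • b₂, ?_⟩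
    rw [map_add, Algebra.algebraMap_eq_smul_one (R := B) (a₂ • b₁), Algebra.algebraMap_eq_smul_one (R := B) (a₁ • b₂),
      smul_assoc, smul_assoc, ← Algebra.algebraMap_eq_smul_one, ← Algebra.algebraMap_eq_smul_one, ← e₁, ← e₂,
      smul_add, smul_smul, smul_smul, mul_comm a₂]

/-- `B`-part of an element of the fibre of a module. -/
theorem exists_clear_mod (hk : IsFrac A k) {M : Type u} [AddCommGroup M] [Module A M] (y : M ⊗[A] k) :
    ∃ a : A, algebraMap A k a ≠ 0 ∧ ∃ m : M, a • y = m ⊗ₜ 1 := by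
  induction y using TensorProduct.induction_on with
  | zero => exact ⟨1, by simp, 0, by simp⟩
  | tmul x c =>
    obtain ⟨a, ha, n, e⟩ := hk c
    exact ⟨a, ha, n • x, by
      rw [← TensorProduct.tmul_smul, e, Algebra.algebraMap_eq_smul_one, TensorProduct.tmul_smul]; rfl⟩
  | add y₁ y₂ h₁ h₂ =>
    obtain ⟨a₁, ha₁, z₁, e₁⟩ := h₁
    obtain ⟨a₂, ha₂, z₂, e₂⟩ := h₂
    exact ⟨a₁ * a₂, by rw [map_mul]; exact mul_ne_zero ha₁ ha₂, a₂ • z₁ + a₁ • z₂, by
      rw [TensorProduct.add_tmul, ← TensorProduct.smul_tmul', ← TensorProduct.smul_tmul', ← e₁, ← e₂, smul_add,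
        smul_smul, smul_smul, mul_comm a₂]⟩

section Lift

variable {P₁ P₂ P₃ : Type u} [AddCommGroup P₁] [AddCommGroup P₂] [AddCommGroup P₃]
  [Module A P₁] [Module B P₁] [IsScalarTower A B P₁]
  [Module A P₂] [Module B P₂] [IsScalarTower A B P₂]
  [Module A P₃] [Module B P₃] [IsScalarTower A B P₃]
  {g : P₁ →ₗ[B] P₂} {h : P₂ →ₗ[B] P₃} {q : Ideal B} [q.IsPrime]

/-- A cycle of the fibre lifts to a cycle, up to a unit at `q`. -/
theorem exists_cycle [IsNoetherianRing A] [Module.Flat A P₂] [Module.Flat A P₃] (hk : IsFrac A k)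
    (hp : q.comap (algebraMap A B) = RingHom.ker (algebraMap A k)) (hhg : h ∘ₗ g = 0)
    (hnext : ∀ (N : Type u) [AddCommGroup N] [Module A N] [Module.Finite A N], ExAt A g h q N)
    (z : P₁ ⊗[A] k) (hz : tn g k z = 0) : ∃ s ∉ q, ∃ x : P₁, g x = 0 ∧ s • z = x ⊗ₜ 1 := by
  obtain ⟨a, ha, u, hu⟩ := exists_clear_mod hk z
  have hau : algebraMap A B a ∉ q := fun h' => ha (RingHom.mem_ker.1 (hp ▸ h'))
  let I := RingHom.ker (algebraMap A k)
  haveI : Module.Finite A I := Module.IsNoetherian.finite A _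
  let π : A →ₗ[A] A ⧸ I := (Submodule.mkQ _)
  let ι' : (A ⧸ I) →ₗ[A] k := Submodule.liftQ _ (Algebra.linearMap A k) fun a ha => ha
  have hι' : Function.Injective ι' := by
    refine (injective_iff_map_eq_zero ι').2 fun n hn => ?_
    obtain ⟨n, rfl⟩ := Submodule.Quotient.mk_surjective _ n
    exact (Submodule.Quotient.mk_eq_zero _).2 hn
  have h0 : π.lTensor P₂ (g u ⊗ₜ (1 : A)) = 0 := by
    apply Module.Flat.lTensor_preserves_injective_linearMap (M := P₂) ι' hι'
    rw [LinearMap.lTensor_tmul, LinearMap.lTensor_tmul, map_zero, show ι' (π 1) = (1 : k) from map_one (algebraMap A k),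
      show g u ⊗ₜ[A] (1 : k) = tn g k (u ⊗ₜ 1) from rfl, ← hu, LinearMap.map_smul_of_tower, hz, smul_zero]
  obtain ⟨w, hw⟩ := (lTensor_exact P₂ (LinearMap.exact_subtype_mkQ _) (Submodule.mkQ_surjective _) _).1 h0
  have hw0 : tn h I w = 0 := by
    apply Module.Flat.lTensor_preserves_injective_linearMap (M := P₃) (Submodule.subtype _) Subtype.val_injective
    rw [← tn_natural, hw, map_zero]
    show h (g u) ⊗ₜ[A] (1 : A) = 0
    rw [show h (g u) = 0 from LinearMap.congr_fun hhg u, TensorProduct.zero_tmul]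
  obtain ⟨s, hs, v, hv⟩ := hnext I w hw0
  refine ⟨s * algebraMap A B a, fun h' => (Ideal.IsPrime.mem_or_mem ‹_› h').elim hs hau,
    s • u - TensorProduct.rid A P₁ ((Submodule.subtype I).lTensor P₁ v), ?_, ?_⟩
  · have h1 : ∀ y : P₁ ⊗[A] A, g (TensorProduct.rid A P₁ y) = TensorProduct.rid A P₂ (tn g A y) := fun y => by
      induction y using TensorProduct.induction_on with
      | zero => simp
      | tmul p n => simp
      | add a b ha hb => simp only [map_add, ha, hb]
    rw [map_sub, map_smul, h1, tn_natural, hv, lTensor_smul, hw, TensorProduct.smul_tmul',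
      TensorProduct.rid_tmul, one_smul, sub_self]
  · have h2 : ∀ y : P₁ ⊗[A] I, (TensorProduct.rid A P₁ ((Submodule.subtype I).lTensor P₁ y)) ⊗ₜ[A] (1 : k) = 0 := by
      intro y
      induction y using TensorProduct.induction_on with
      | zero => simp
      | tmul p n =>
        rw [LinearMap.lTensor_tmul, TensorProduct.rid_tmul, TensorProduct.smul_tmul,
          show (Submodule.subtype I n) • (1 : k) = 0 from (Algebra.algebraMap_eq_smul_one _).symm.trans n.2, TensorProduct.tmul_zero]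
      | add a b ha hb => simp only [map_add, TensorProduct.add_tmul, ha, hb, add_zero]
    rw [TensorProduct.sub_tmul, h2, sub_zero, mul_smul, algebraMap_smul, hu, TensorProduct.smul_tmul']

end Lift

/-- The fibre of a term. -/
noncomputable def θ (k : Type u) [Field k] [Algebra A k] (P : DRing.Cx B) (a : ℤ) :
    ((fibreCx (A := A) k P).X a : Type u) ≃+ (P.X a : Type u) ⊗[A] k :=
  (extEquiv (B ⊗[A] k) (P.X a) :
    ((fibreCx (A := A) k P).X a : Type u) ≃+ (B ⊗[A] k) ⊗[B] P.X a).trans (fibreEquiv k (P.X a)).toAddEquiv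

theorem θ_d (P : DRing.Cx B) (a b : ℤ) (y : (fibreCx (A := A) k P).X a) :
    θ (A := A) k P b (df (fibreCx (A := A) k P) a b y) = tn (df P a b) k (θ (A := A) k P a y) :=
  (congrArg (fibreEquiv k (P.X b)) (extEquiv_natural (P.d a b) y)).trans (fibreEquiv_natural _ _)

theorem θ_smul (P : DRing.Cx B) (a : ℤ) (b : B) (y : (fibreCx (A := A) k P).X a) :
    θ (A := A) k P a (algebraMap B (B ⊗[A] k) b • y) = b • θ (A := A) k P a y := by
  show fibreEquiv (A := A) k (P.X a) (extEquiv (B ⊗[A] k) (P.X a) _) = _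
  rw [extEquiv_smul, algebraMap_smul, map_smul]
  rfl

variable [IsNoetherianRing A] [IsNoetherianRing B] [Module.Flat A B] {P : DRing.Cx B}

/-- **A free generator lifts from the fibre.** -/
theorem exists_isGen_of_fibre (hk : IsFrac A k) (hP : DRing.TermwiseFiniteFree P) (q : PrimeSpectrum B)
    (hp : q.asIdeal.comap (algebraMap A B) = RingHom.ker (algebraMap A k))
    (Q : PrimeSpectrum (B ⊗[A] k)) (hQ : Q.asIdeal.comap (algebraMap B (B ⊗[A] k)) = q.asIdeal) (c : ℤ)
    (hne : ∀ j, j ≠ c → ExI A P j q.asIdeal k) (z : (fibreCx (A := A) k P).X c) (hz : IsGen (fibreCx (A := A) k P) c Q.asIdeal z) :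
    ∃ x, IsGen P c q.asIdeal x := by
  haveI := fun j => flat_term (A := A) hP j
  haveI := fun j => (hP j).1
  obtain ⟨hz0, hgen, hfree⟩ := hz
  -- elements of `A` outside the prime
  have haB : ∀ a : A, algebraMap A k a ≠ 0 → algebraMap A B a ∉ q.asIdeal :=
    fun a ha h' => ha (RingHom.mem_ker.1 (hp ▸ h'))
  -- lift the generator
  have hhi : ExAt A (df P c (c + 1)) (df P (c + 1) (c + 1 + 1)) q.asIdeal k :=
    exAt_of_eq (by ring) rfl (hne (c + 1) (by omega))
  obtain ⟨s, hs, x, hx, hsx⟩ := exists_cycle (g := df P c (c + 1)) hk hp (df_comp P _ (c + 1) (c + 1 + 1))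
    (fun N _ _ _ => exAt_of_fibre (df_comp P _ _ _) hk hp hhi N) (θ (A := A) k P c z) (by rw [← θ_d, hz0, map_zero])
  -- gen and free, in the fibre over `B`
  have gen : ∀ w : P.X c ⊗[A] k, tn (df P c (c + 1)) k w = 0 →
      ∃ t ∉ q.asIdeal, ∃ (b : B) (u : P.X (c - 1) ⊗[A] k), t • w = tn (df P (c - 1) c) k u + b • (x ⊗ₜ[A] (1 : k)) := by
    intro w hw
    obtain ⟨S, hS, β, u, hu⟩ := hgen ((θ (A := A) k P c).symm w) ((θ (A := A) k P (c + 1)).injective
      (by rw [θ_d, AddEquiv.apply_symm_apply, hw, map_zero]))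
    obtain ⟨a₁, ha₁, t₁, ht₁⟩ := exists_clear hk S
    obtain ⟨a₂, ha₂, b, hb⟩ := exists_clear hk β
    have ht₁' : t₁ ∉ q.asIdeal := by
      rw [← hQ, Ideal.mem_comap, ← ht₁, Algebra.smul_def, IsScalarTower.algebraMap_apply A B (B ⊗[A] k)]
      exact fun h' => (Q.2.mem_or_mem h').elim
        (fun h'' => haB a₁ ha₁ (by rw [← hQ, Ideal.mem_comap]; exact h'')) hS
    refine ⟨s * (algebraMap A B a₂ * t₁), fun h' => (Ideal.IsPrime.mem_or_mem q.2 h').elim hs fun h'' =>
      (Ideal.IsPrime.mem_or_mem q.2 h'').elim (haB a₂ ha₂) ht₁', algebraMap A B a₁ * b,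
      θ (A := A) k P (c - 1) (algebraMap B (B ⊗[A] k) (s * (algebraMap A B a₁ * algebraMap A B a₂)) • u), ?_⟩
    rw [← θ_d, map_smul, hu, ← hsx, smul_smul]
    conv_lhs => rw [← (θ (A := A) k P c).apply_symm_apply w, ← θ_smul]
    rw [← θ_smul, ← map_add, smul_sub, smul_smul, smul_smul]
    congr 1
    rw [map_mul, map_mul, map_mul, map_mul, map_mul, map_mul, ← ht₁, ← hb, Algebra.smul_def, Algebra.smul_def,
      ← IsScalarTower.algebraMap_apply, ← IsScalarTower.algebraMap_apply]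
    module
  have free : ∀ (b : B) (u : P.X (c - 1) ⊗[A] k), tn (df P (c - 1) c) k u + b • (x ⊗ₜ[A] (1 : k)) = 0 →
      ∃ t ∉ q.asIdeal, (t * b) ⊗ₜ[A] (1 : k) = 0 := by
    intro b u hu
    obtain ⟨S, hS, hSb⟩ := hfree (algebraMap B (B ⊗[A] k) (b * s)) ⟨-(θ (A := A) k P (c - 1)).symm u,
      (θ (A := A) k P c).injective (by
        rw [θ_d, map_neg, map_neg, AddEquiv.apply_symm_apply, θ_smul, mul_smul, hsx]
        exact neg_eq_of_add_eq_zero_right hu)⟩
    obtain ⟨a, ha, t, ht⟩ := exists_clear hk S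
    have ht' : t ∉ q.asIdeal := by
      rw [← hQ, Ideal.mem_comap, ← ht, Algebra.smul_def, IsScalarTower.algebraMap_apply A B (B ⊗[A] k)]
      exact fun h' => (Q.2.mem_or_mem h').elim (fun h'' => haB a ha (by rw [← hQ, Ideal.mem_comap]; exact h'')) hS
    refine ⟨t * s, fun h' => (Ideal.IsPrime.mem_or_mem q.2 h').elim ht' hs, ?_⟩
    show algebraMap B (B ⊗[A] k) (t * s * b) = 0
    rw [mul_assoc, mul_comm s b, map_mul, ← ht, smul_mul_assoc, hSb, smul_zero]
  -- the modified complexes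
  let f' : P.X (c - 1) × B →ₗ[B] P.X c := (df P (c - 1) c).coprod (LinearMap.toSpanSingleton B _ x)
  let d' : P.X (c - 1 - 1) →ₗ[B] P.X (c - 1) × B := (LinearMap.inl B _ B) ∘ₗ df P (c - 1 - 1) (c - 1)
  have hgf : df P c (c + 1) ∘ₗ f' = 0 := LinearMap.ext fun ⟨u, b⟩ => by
    simp [f', hx, show df P c (c + 1) (df P (c - 1) c u) = 0 from LinearMap.congr_fun (df_comp P _ _ _) u]
  have hfd : f' ∘ₗ d' = 0 := LinearMap.ext fun v => by
    simp [f', d', show df P (c - 1) c (df P (c - 1 - 1) (c - 1) v) = 0 from LinearMap.congr_fun (df_comp P _ _ _) v]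
  have hinl : ∀ u : P.X (c - 1) ⊗[A] k, tn f' k (tn (LinearMap.inl B _ B) k u) = tn (df P (c - 1) c) k u :=
    fun u => by
      induction u using TensorProduct.induction_on with
      | zero => simp
      | tmul p n => simp [f']
      | add a b ha hb => simp only [map_add, ha, hb]
  have hinr : ∀ b : B, tn f' k ((((0 : P.X (c - 1)), b) : P.X (c - 1) × B) ⊗ₜ[A] (1 : k)) = b • (x ⊗ₜ[A] (1 : k)) :=
    fun b => by simp [f', TensorProduct.smul_tmul']
  have hd' : ∀ v : P.X (c - 1 - 1) ⊗[A] k, tn d' k v =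
      tn (LinearMap.inl B _ B) k (tn (df P (c - 1 - 1) (c - 1)) k v) := fun v => by
    induction v using TensorProduct.induction_on with
    | zero => simp
    | tmul p n => simp [d']
    | add a b ha hb => simp only [map_add, ha, hb]
  have h₁ : ExAt A f' (df P c (c + 1)) q.asIdeal k := fun w hw => by
    obtain ⟨t, ht, b, u, e⟩ := gen w hw
    exact ⟨t, ht, tn (LinearMap.inl B _ B) k u + (((0 : P.X (c - 1)), b) : P.X (c - 1) × B) ⊗ₜ[A] (1 : k),
      by rw [map_add, hinl, hinr, e]⟩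
  have h₂ : ExAt A d' f' q.asIdeal k := fun w hw => by
    obtain ⟨a, ha, ⟨u, b⟩, e⟩ := exists_clear_mod hk w
    have hsplit : ((u, b) : P.X (c - 1) × B) ⊗ₜ[A] (1 : k) =
        tn (LinearMap.inl B _ B) k (u ⊗ₜ 1) + (((0 : P.X (c - 1)), b) : P.X (c - 1) × B) ⊗ₜ[A] (1 : k) := by
      rw [show tn (LinearMap.inl B (P.X (c - 1)) B) k (u ⊗ₜ (1 : k)) = ((u, (0 : B)) : P.X (c - 1) × B) ⊗ₜ (1 : k)
        from rfl, ← TensorProduct.add_tmul, Prod.mk_add_mk, add_zero, zero_add]
    have h0 : tn (df P (c - 1) c) k (u ⊗ₜ[A] (1 : k)) + b • (x ⊗ₜ[A] (1 : k)) = 0 := by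
      rw [← hinl, ← hinr, ← map_add, ← hsplit, ← e, LinearMap.map_smul_of_tower, hw, smul_zero]
    obtain ⟨t, ht, htb⟩ := free b _ h0
    have htu : tn (df P (c - 1) c) k (t • (u ⊗ₜ[A] (1 : k))) = 0 := by
      rw [map_smul, eq_neg_of_add_eq_zero_left h0, smul_neg, smul_smul, neg_eq_zero, TensorProduct.smul_tmul']
      have h3 := congrArg ((LinearMap.toSpanSingleton B (P.X c) x).restrictScalars A |>.rTensor k) htb
      simpa using h3
    obtain ⟨t', ht', v, hv⟩ :=
      (exAt_of_eq rfl (by ring) (hne (c - 1) (by omega)) :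
        ExAt A (df P (c - 1 - 1) (c - 1)) (df P (c - 1) c) q.asIdeal k) _ htu
    refine ⟨t' * t * algebraMap A B a, fun h' => (Ideal.IsPrime.mem_or_mem q.2 h').elim
      (fun h'' => (Ideal.IsPrime.mem_or_mem q.2 h'').elim ht' ht) (haB a ha), v, ?_⟩
    rw [hd', hv, map_smul, map_smul, mul_smul, algebraMap_smul, e, hsplit, smul_add, mul_smul, mul_smul,
      left_eq_add, TensorProduct.smul_tmul', TensorProduct.smul_tmul', Prod.smul_mk, Prod.smul_mk, smul_zero,
      smul_zero, smul_eq_mul, smul_eq_mul]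
    have h4 := congrArg (tn (LinearMap.inr B (P.X (c - 1)) B) k) (congrArg (t' • ·) htb)
    simpa [TensorProduct.smul_tmul'] using h4
  have g₁ := exAt_self_iff.1 (exAt_of_fibre hgf hk hp h₁ A)
  have g₂ := exAt_self_iff.1 (exAt_of_fibre hfd hk hp h₂ A)
  refine ⟨x, hx, fun w hw => ?_, fun b hb => ?_⟩
  · obtain ⟨t, ht, ⟨u, b⟩, e⟩ := g₁ w hw
    exact ⟨t, ht, b, u, by simp [← e, f']⟩
  · obtain ⟨u, hu⟩ := hb
    obtain ⟨t, ht, v, e⟩ := g₂ ((-u, b) : P.X (c - 1) × B) (by simp [f', hu])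
    exact ⟨t, ht, by simpa [d'] using (congrArg Prod.snd e).symm⟩

end Groth.Agent.LeadBrown.Rel
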