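import Groth.Agent.H4Depth.Regular
import Groth.Agent.H4Depth.LocDepth
import Groth.Agent.H8Props.FlatDepth
import Groth.Agent.H8Props.FieldDimSmooth
import Groth.Agent.H8Props.FieldDimFormula
import Groth.Agent.H06EGA17.LocalModel
import Groth.Agent.H4DualSch.Basic
import Groth.Agent.H17.ExtRegVanish.Regular
import Groth.Agent.LeadBrown.ClosedHomO2
import Groth.Agent.H11Ample.Ample
import Mathlib.RingTheory.Regular.Flat

/-!
# The grade of a closed subscheme of a smooth scheme over the base
-/

set_option autoImplicit false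
set_option linter.style.haveILetI false
set_option linter.unusedSectionVars false
set_option backward.isDefEq.respectTransparency false
set_option maxHeartbeats 1000000

universe u

open CategoryTheory CategoryTheory.Limits AlgebraicGeometry RingTheory.Sequence TopologicalSpace

attribute [local instance] HasDerivedCategory.standard

namespace Groth.Agent.LeadBrown.Rel

open Groth.Agent.H8Props

theorem depth_eq_of_ringEquiv {R S : Type u} [CommRing R] [CommRing S] [IsLocalRing R] [IsLocalRing S]
    (e : R ≃+* S) : LocCoh.depth S S = LocCoh.depth R R := by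
  letI := e.toRingHom.toAlgebra
  rw [FlatDepth.depth_eq_of_surjective (R := R) (M := S) e.surjective]
  exact H4Depth.idealDepth_congr _
    ({ toFun := e.symm
       invFun := e
       map_add' := map_add e.symm
       map_smul' := fun r x => by
         show e.symm (e r * x) = r * e.symm x
         rw [map_mul, e.symm_apply_apply]
       left_inv := e.apply_symm_apply
       right_inv := e.symm_apply_apply } : S ≃ₗ[R] R)

variable {U W Y : Scheme.{u}} [IsLocallyNoetherian Y] [IsLocallyNoetherian W] (i : U ⟶ W) [IsClosedImmersion i]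
  (g : W ⟶ Y) (N n : ℕ) [SmoothOfRelativeDimension N g]

/-- At a point of a closed subscheme with small fibre, the depth of the smooth scheme is large. -/
theorem le_depth_stalk (u : U) (h : FlatMor.fibreDimAt (i ≫ g) u ≤ (n : WithBot ℕ∞)) :
    ((N - n : ℕ) : ℕ∞) ≤ LocCoh.depth (W.presheaf.stalk (i u)) (W.presheaf.stalk (i u)) := by
  haveI : Smooth g := SmoothOfRelativeDimension.smooth N g
  let w := i u
  letI := (g.stalkMap w).hom.toAlgebra
  haveI : IsLocalHom (algebraMap (Y.presheaf.stalk (g w)) (W.presheaf.stalk w)) :=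
    inferInstanceAs (IsLocalHom (g.stalkMap w).hom)
  haveI : Module.Flat (Y.presheaf.stalk (g w)) (W.presheaf.stalk w) := Flat.stalkMap g w
  haveI hreg : IsRegularLocalRing (W.presheaf.stalk w ⧸
      (IsLocalRing.maximalIdeal (Y.presheaf.stalk (g w))).map (algebraMap (Y.presheaf.stalk (g w)) (W.presheaf.stalk w))) :=
    H06EGA17.isRegularLocalRing_fibre g w (by rw [g.smoothLocus_eq_top]; trivial)
  -- transcendence degree
  obtain ⟨t, ht, htr⟩ := FieldDim.fibreDimAt_eq g w
  obtain ⟨t', ht', htr'⟩ := FieldDim.fibreDimAt_eq (i ≫ g) u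
  have htt : t = t' := by
    letI := (g.residueFieldMap w).hom.toAlgebra
    letI : Algebra (Y.residueField (g w)) (U.residueField u) := ((i ≫ g).residueFieldMap u).hom.toAlgebra
    have hb : Function.Bijective (i.residueFieldMap u).hom := by
      refine ⟨RingHom.injective _, fun y => ?_⟩
      obtain ⟨s, rfl⟩ := U.residue_surjective u y
      obtain ⟨r, rfl⟩ := i.stalkMap_surjective u s
      exact ⟨W.residue (i u) r, congr($(Scheme.residue_residueFieldMap i u).hom r)⟩
    have hc : ∀ c : Y.residueField (g w), (i.residueFieldMap u).hom ((g.residueFieldMap w).hom c) =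
        ((i ≫ g).residueFieldMap u).hom c := fun c => by
      rw [Scheme.residueFieldMap_comp]; rfl
    let e : W.residueField w ≃ₐ[Y.residueField (g w)] U.residueField u :=
      AlgEquiv.ofRingEquiv (f := RingEquiv.ofBijective _ hb) hc
    have h3 := htr.symm.trans (e.trdeg_eq.trans htr')
    exact_mod_cast h3
  rw [FieldDim.fibreDimAt_of_smoothOfRelativeDimension g N w] at ht
  have hdep := H4Depth.depth_self_eq_ringKrullDim_of_regular (W.presheaf.stalk w ⧸
      (IsLocalRing.maximalIdeal (Y.presheaf.stalk (g w))).map (algebraMap (Y.presheaf.stalk (g w)) (W.presheaf.stalk w)))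
  rw [show ringKrullDim (W.presheaf.stalk w ⧸ (IsLocalRing.maximalIdeal (Y.presheaf.stalk (g w))).map
    (algebraMap (Y.presheaf.stalk (g w)) (W.presheaf.stalk w))) = ringKrullDim (W.presheaf.stalk w ⧸
      (IsLocalRing.maximalIdeal (Y.presheaf.stalk (g w))).map (g.stalkMap w).hom) from rfl] at hdep
  rw [← hdep] at ht
  have htn : t ≤ n := by
    rw [htt]
    have h2 : (t' : WithBot ℕ∞) ≤ (n : WithBot ℕ∞) := by
      refine le_trans ?_ (ht' ▸ h)
      haveI : IsLocalHom ((i ≫ g).stalkMap u).hom := inferInstance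
      have h0 : (0 : WithBot ℕ∞) ≤ ringKrullDim (U.presheaf.stalk u ⧸
          (IsLocalRing.maximalIdeal (Y.presheaf.stalk ((i ≫ g) u))).map ((i ≫ g).stalkMap u).hom) := by
        haveI : Nontrivial (U.presheaf.stalk u ⧸
            (IsLocalRing.maximalIdeal (Y.presheaf.stalk ((i ≫ g) u))).map ((i ≫ g).stalkMap u).hom) :=
          Ideal.Quotient.nontrivial_iff.2 (ne_top_of_le_ne_top (IsLocalRing.maximalIdeal.isMaximal _).ne_top
            (IsLocalRing.map_maximalIdeal_le ((i ≫ g).stalkMap u).hom))
        exact ringKrullDim_nonneg_of_nontrivial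
      exact le_add_of_nonneg_left h0
    exact_mod_cast h2
  obtain ⟨d, hd⟩ : ∃ d : ℕ, LocCoh.depth (W.presheaf.stalk w ⧸
      (IsLocalRing.maximalIdeal (Y.presheaf.stalk (g w))).map (algebraMap (Y.presheaf.stalk (g w)) (W.presheaf.stalk w)))
      (W.presheaf.stalk w ⧸ (IsLocalRing.maximalIdeal (Y.presheaf.stalk (g w))).map
        (algebraMap (Y.presheaf.stalk (g w)) (W.presheaf.stalk w))) = (d : ℕ∞) :=
    (ENat.ne_top_iff_exists.1 (FlatDepth.depth_ne_top _ _)).imp fun _ h => h.symm
  rw [hd] at ht
  have hN : N = d + t := by exact_mod_cast ht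
  rw [FlatDepth.depth_eq_add (Y.presheaf.stalk (g w)) (W.presheaf.stalk w), hd]
  refine le_trans ?_ le_add_self
  exact_mod_cast (by omega : N - n ≤ d)

/-- A regular sequence of global functions killing the closed subscheme. -/
theorem exists_regular_killed [IsAffine W] (h : ∀ u : U, FlatMor.fibreDimAt (i ≫ g) u ≤ (n : WithBot ℕ∞))
    [Nonempty U] :
    ∃ l : List Γ(W, ⊤), l.length = N - n ∧
      H17.ExtRegVanish.Killed l ((Scheme.Modules.pushforward i).obj (Coh.structureModule U)) ∧
      ∀ x : W, IsWeaklyRegular ((Coh.structureModule W).presheaf.stalk x)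
        (l.map fun a => W.presheaf.germ ⊤ x trivial a) := by
  haveI : IsAffine U := isAffine_of_isAffineHom i
  haveI : IsNoetherianRing Γ(W, ⊤) := IsLocallyNoetherian.component_noetherian ⟨⊤, isAffineOpen_top W⟩
  let I := RingHom.ker i.appTop.hom
  have hI : I • (⊤ : Submodule Γ(W, ⊤) Γ(W, ⊤)) ≠ ⊤ := by
    rw [smul_eq_mul, Ideal.mul_top]
    haveI : Nontrivial Γ(U, ⊤) := PrimeSpectrum.nonempty_iff_nontrivial.1 ⟨U.isoSpec.hom (Classical.arbitrary U)⟩
    exact RingHom.ker_ne_top i.appTop.hom
  have hle : ((N - n : ℕ) : ℕ∞) ≤ LocCoh.idealDepth I Γ(W, ⊤) := by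
    obtain ⟨q, hq, hIq, hd⟩ := H4Depth.exists_prime_depth_localization_eq I Γ(W, ⊤) hI
    rw [← hd]
    have hsurj : Function.Surjective i.appTop.hom := (IsClosedImmersion.isAffine_surjective_of_isAffine i).2
    obtain ⟨q', hq'⟩ : (⟨q, hq⟩ : PrimeSpectrum Γ(W, ⊤)) ∈ Set.range (PrimeSpectrum.comap i.appTop.hom) := by
      rw [range_comap_of_surjective _ _ hsurj]
      exact hIq
    let u : U := U.isoSpec.inv q'
    have hu : i u = W.isoSpec.inv (⟨q, hq⟩ : PrimeSpectrum Γ(W, ⊤)) := by
      rw [← hq']
      exact (congr($(Scheme.isoSpec_inv_naturality i).base q')).symm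
    obtain ⟨e⟩ := H4DualSch.exists_stalk_ringEquiv (A := Γ(W, ⊤)) W.isoSpec.inv (⟨q, hq⟩ : PrimeSpectrum Γ(W, ⊤))
    have h1 := le_depth_stalk i g N n u (h u)
    rw [hu] at h1
    exact h1.trans_eq (depth_eq_of_ringEquiv e)
  obtain ⟨l, hlen, hmem, hreg⟩ := H4Depth.exists_isWeaklyRegular_of_le_idealDepth hI hle
  refine ⟨l, hlen, fun a ha => Scheme.Modules.hom_ext _ _ fun V => ?_, fun x => ?_⟩
  · ext m
    show (i.app V).hom (H17.ExtRegVanish.res V a) * (show Γ(U, i ⁻¹ᵁ V) from m) = 0
    have h0 : (i.app V).hom (H17.ExtRegVanish.res V a) = 0 := by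
      have h1 := congr($(i.naturality (homOfLE (le_top : V ≤ ⊤)).op).hom a)
      refine h1.trans ?_
      show U.presheaf.map _ (i.appTop.hom a) = 0
      rw [show i.appTop.hom a = 0 from hmem a ha, map_zero]
    rw [h0, zero_mul]
  · letI : Algebra Γ(W, ⊤) (W.presheaf.stalk x) := (W.presheaf.germ ⊤ x trivial).hom.toAlgebra
    haveI : IsLocalization.AtPrime (W.presheaf.stalk x) ((isAffineOpen_top W).primeIdealOf ⟨x, trivial⟩).asIdeal :=
      (isAffineOpen_top W).isLocalization_stalk ⟨x, trivial⟩
    exact ((LinearEquiv.ofBijective (LinearMap.toSpanSingleton (W.presheaf.stalk x) _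
      ((Coh.structureModule W).presheaf.germ ⊤ x (Opens.mem_top x) (H11Ample.one ⊤)))
      (H11Ample.isGen_one (X := W) ⊤ x (Opens.mem_top x))).isWeaklyRegular_congr _).1
      (IsWeaklyRegular.of_isLocalization (W.presheaf.stalk x)
        ((isAffineOpen_top W).primeIdealOf ⟨x, trivial⟩).asIdeal.primeCompl hreg)

end Groth.Agent.LeadBrown.Rel
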