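import Groth.Agent.LeadBrown.Rel.Converse
import Groth.Agent.H4DR.TorAmp.Quotient
import Groth.Agent.H4DR.TorAmp.Derived
import Groth.Agent.H4DR.PCoh.Les
import Mathlib.Algebra.Homology.ShortComplex.ModuleCat

/-!
# A complex of modules and its fibre at a prime
-/

set_option autoImplicit false
set_option linter.unusedSectionVars false
set_option linter.style.haveILetI false
set_option maxHeartbeats 1000000
set_option backward.isDefEq.respectTransparency false
set_option backward.isDefEq.respectTransparency.types false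

universe u

open CategoryTheory CategoryTheory.Limits TensorProduct
open Groth.Agent.H4DR.TorAmp

attribute [local instance] HasDerivedCategory.standard

namespace Groth.Agent.LeadBrown.Rel

/-- The `A`-structure of a `B`-module. -/
@[instance_reducible] noncomputable def modA (A : Type u) {B : Type u} [CommRing A] [CommRing B] [Algebra A B]
    (M : ModuleCat.{u} B) : Module A M := Module.compHom M (algebraMap A B)

attribute [local instance] modA

variable {A B : Type u} [CommRing A] [CommRing B] [Algebra A B]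

theorem towerA (M : ModuleCat.{u} B) : IsScalarTower A B M := .of_algebraMap_smul fun _ _ => rfl

attribute [local instance] towerA

/-- The differential. -/
noncomputable abbrev df (P : DRing.Cx B) (i j : ℤ) : P.X i →ₗ[B] P.X j := (P.d i j).hom

theorem df_comp (P : DRing.Cx B) (i j l : ℤ) : df P j l ∘ₗ df P i j = 0 :=
  LinearMap.ext fun x => congr($(P.d_comp_d i j l).hom x)

/-- `H^i` is the kernel on the cokernel. -/
theorem nonempty_homology_equiv (P : DRing.Cx B) (i : ℤ) :
    Nonempty (Dual.HD B (DRing.toD P) i ≃ₗ[B]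
      LinearMap.ker ((LinearMap.range (df P (i - 1) i)).liftQ (df P i (i + 1))
        (LinearMap.range_le_ker_iff.2 (df_comp P (i - 1) i (i + 1))))) := by
  let T := P.sc' (i - 1) i (i + 1)
  let δ := (LinearMap.range (df P (i - 1) i)).liftQ (df P i (i + 1))
    (LinearMap.range_le_ker_iff.2 (df_comp P (i - 1) i (i + 1)))
  let ρ : LinearMap.ker T.g.hom →ₗ[B] LinearMap.ker δ :=
    ((LinearMap.range (df P (i - 1) i)).mkQ ∘ₗ (LinearMap.ker T.g.hom).subtype).codRestrict _ fun z =>
      LinearMap.mem_ker.2 (show df P i (i + 1) z.1 = 0 from z.2)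
  have hker : LinearMap.ker ρ = LinearMap.range T.moduleCatToCycles := by
    ext z
    rw [LinearMap.mem_ker, ← Subtype.coe_inj, Submodule.coe_zero]
    show Submodule.Quotient.mk z.1 = 0 ↔ _
    rw [Submodule.Quotient.mk_eq_zero]
    exact ⟨fun ⟨y, hy⟩ => ⟨y, Subtype.ext hy⟩, fun ⟨y, hy⟩ => ⟨y, congrArg Subtype.val hy⟩⟩
  have hsurj : Function.Surjective ρ := fun ⟨w, hw⟩ => by
    obtain ⟨z, rfl⟩ := Submodule.mkQ_surjective _ w
    exact ⟨⟨z, hw⟩, rfl⟩
  exact ⟨((((DerivedCategory.homologyFunctorFactors (ModuleCat.{u} B) i).app P) ≪≫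
    HomologicalComplex.homologyIsoSc' P (i - 1) i (i + 1) (by simp) (by simp) ≪≫
      T.moduleCatHomologyIso).toLinearEquiv).trans
    ((Submodule.quotEquivOfEq _ _ hker.symm).trans (ρ.quotKerEquivOfSurjective hsurj))⟩

/-- Homology vanishes at `q` iff the complex is exact at `q`. -/
theorem notMem_support_iff (P : DRing.Cx B) (i : ℤ) (q : PrimeSpectrum B) :
    q ∉ Module.support B (Dual.HD B (DRing.toD P) i) ↔
      ∀ x : P.X i, df P i (i + 1) x = 0 → ∃ s ∉ q.asIdeal, s • x ∈ LinearMap.range (df P (i - 1) i) := by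
  obtain ⟨e⟩ := nonempty_homology_equiv P i
  rw [e.support_eq, Module.notMem_support_iff']
  refine ⟨fun h x hx => ?_, fun h => ?_⟩
  · obtain ⟨s, hs, e'⟩ := h ⟨Submodule.Quotient.mk x, LinearMap.mem_ker.2 hx⟩
    exact ⟨s, hs, (Submodule.Quotient.mk_eq_zero _).1 ((Submodule.Quotient.mk_smul _ s x).trans
      (congrArg Subtype.val e'))⟩
  · rintro ⟨w, hw⟩
    obtain ⟨x, rfl⟩ := Submodule.mkQ_surjective _ w
    obtain ⟨s, hs, h'⟩ := h x hw
    exact ⟨s, hs, Subtype.ext ((Submodule.Quotient.mk_smul _ s x).symm.trans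
      ((Submodule.Quotient.mk_eq_zero _).2 h'))⟩

variable (A) in
/-- Exactness of `P ⊗_A N` at `(i, q)`. -/
def ExI (P : DRing.Cx B) (i : ℤ) (q : Ideal B) (N : Type u) [AddCommGroup N] [Module A N] : Prop :=
  ExAt A (df P (i - 1) i) (df P i (i + 1)) q N

variable {k : Type u} [Field k] [Algebra A k]

/-- The fibre complex of `P` over `k`. -/
noncomputable abbrev fibreCx (k : Type u) [Field k] [Algebra A k] (P : DRing.Cx B) : DRing.Cx (B ⊗[A] k) :=
  ((ModuleCat.extendScalars.{u, u, u} (algebraMap B (B ⊗[A] k))).mapHomologicalComplex (ComplexShape.up ℤ)).obj P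

variable (k) in
/-- `(B ⊗_A k) ⊗_B M = M ⊗_A k`. -/
noncomputable def fibreEquiv (M : ModuleCat.{u} B) : (B ⊗[A] k) ⊗[B] M ≃ₗ[B] M ⊗[A] k :=
  (TensorProduct.comm B (B ⊗[A] k) M).trans (AlgebraTensorModule.cancelBaseChange A B B M k)

theorem fibreEquiv_natural {M N : ModuleCat.{u} B} (φ : M →ₗ[B] N) (x : (B ⊗[A] k) ⊗[B] M) :
    fibreEquiv k N (φ.lTensor (B ⊗[A] k) x) = tn φ k (fibreEquiv k M x) := by
  induction x using TensorProduct.induction_on with
  | zero => simp
  | add a b ha hb => simp only [map_add, ha, hb]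
  | tmul c m =>
    induction c using TensorProduct.induction_on with
    | zero => simp
    | add a b ha hb => simp only [TensorProduct.add_tmul, map_add, ha, hb]
    | tmul b c => simp [fibreEquiv, LinearMap.map_smul]

/-- `B`-linear identity between the two module structures on `B ⊗_A k`. -/
noncomputable def selfEquiv (C : Type u) [CommRing C] [Algebra B C] :
    ((ModuleCat.restrictScalars.{u} (algebraMap B C)).obj (ModuleCat.of C C) : Type u) ≃ₗ[B] C where
  toFun x := x
  invFun x := x
  map_add' _ _ := rfl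
  map_smul' b x := (Algebra.smul_def b (show C from x)).symm
  left_inv _ := rfl
  right_inv _ := rfl

/-- Extension of scalars as a tensor product. -/
noncomputable def extEquiv (C : Type u) [CommRing C] [Algebra B C] (M : ModuleCat.{u} B) :
    ((ModuleCat.extendScalars.{u, u, u} (algebraMap B C)).obj M : Type u) ≃+ C ⊗[B] M :=
  (TensorProduct.congr (selfEquiv C) (LinearEquiv.refl B M)).toAddEquiv

theorem extEquiv_smul {C : Type u} [CommRing C] [Algebra B C] (M : ModuleCat.{u} B) (c : C)
    (x : ((ModuleCat.extendScalars.{u, u, u} (algebraMap B C)).obj M : Type u)) :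
    extEquiv C M (c • x) = c • extEquiv C M x := by
  induction x using TensorProduct.induction_on with
  | zero => exact (congrArg (extEquiv C M) (smul_zero c)).trans ((map_zero _).trans
      (((congrArg (c • ·) (map_zero (extEquiv C M)))).trans (smul_zero c)).symm)
  | tmul d m => rfl
  | add u v hu hv => exact (congrArg (extEquiv C M) (smul_add c u v)).trans ((map_add _ _ _).trans
      ((congrArg₂ (· + ·) hu hv).trans (((smul_add c _ _).symm).trans (congrArg (c • ·) (map_add _ u v).symm))))

theorem extEquiv_natural {C : Type u} [CommRing C] [Algebra B C] {M N : ModuleCat.{u} B} (φ : M ⟶ N)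
    (x : ((ModuleCat.extendScalars.{u, u, u} (algebraMap B C)).obj M : Type u)) :
    extEquiv C N (((ModuleCat.extendScalars.{u, u, u} (algebraMap B C)).map φ).hom x) =
      φ.hom.lTensor C (extEquiv C M x) := by
  induction x using TensorProduct.induction_on with
  | zero => exact (congrArg (extEquiv C N) (map_zero _)).trans ((map_zero _).trans
      ((congrArg (φ.hom.lTensor C) (map_zero (extEquiv C M))).trans (map_zero _)).symm)
  | tmul d m => rfl
  | add u v hu hv => exact (congrArg (extEquiv C N) (map_add _ u v)).trans ((map_add _ _ _).trans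
      ((congrArg₂ (· + ·) hu hv).trans ((map_add _ _ _).symm.trans (congrArg _ (map_add _ u v).symm))))

/-- The fibre is exact at a prime over `q` iff `P ⊗_A k` is exact at `q`. -/
theorem notMem_support_fibre_iff (hk : IsFrac A k) (P : DRing.Cx B) (i : ℤ) (Q : PrimeSpectrum (B ⊗[A] k))
    (q : PrimeSpectrum B) (hQ : Q.asIdeal.comap (algebraMap B (B ⊗[A] k)) = q.asIdeal) :
    Q ∉ Module.support (B ⊗[A] k) (Dual.HD (B ⊗[A] k) (DRing.toD (fibreCx k P)) i) ↔ ExI A P i q.asIdeal k := by
  let C := B ⊗[A] k
  let E : ∀ a : ℤ, ((fibreCx k P).X a : Type u) ≃+ C ⊗[B] P.X a := fun a => extEquiv C (P.X a)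
  have hd : ∀ (a b : ℤ) (x : (fibreCx k P).X a),
      E b (df (fibreCx k P) a b x) = (df P a b).lTensor C (E a x) :=
    fun a b x => extEquiv_natural (P.d a b) x
  have hEs : ∀ (a : ℤ) (c : C) (x : (fibreCx k P).X a), E a (c • x) = c • E a x :=
    fun a c x => extEquiv_smul (P.X a) c x
  rw [notMem_support_iff]
  refine ⟨fun h x hx => ?_, fun h x hx => ?_⟩
  · obtain ⟨x, rfl⟩ := (fibreEquiv k (P.X i)).surjective x
    obtain ⟨c, hc, y, hy⟩ := h ((E i).symm x) ((E (i + 1)).injective ((hd i (i + 1) _).trans
      ((fibreEquiv k _).injective (by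
        rw [fibreEquiv_natural, AddEquiv.apply_symm_apply, hx, map_zero, map_zero]))))
    -- clear the denominator of `c`
    have hclear : ∀ c : C, ∃ a : A, algebraMap A k a ≠ 0 ∧ ∃ b : B, algebraMap A C a * c = algebraMap B C b := by
      intro c
      induction c using TensorProduct.induction_on with
      | zero => exact ⟨1, by simp, 0, by simp⟩
      | tmul b z =>
        obtain ⟨a, ha, n, e⟩ := hk z
        refine ⟨a, ha, n • b, ?_⟩
        rw [← Algebra.smul_def, ← TensorProduct.tmul_smul, e, Algebra.algebraMap_eq_smul_one, TensorProduct.tmul_smul]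
        rfl
      | add u v hu hv =>
        obtain ⟨a₁, ha₁, b₁, e₁⟩ := hu
        obtain ⟨a₂, ha₂, b₂, e₂⟩ := hv
        refine ⟨a₁ * a₂, by rw [map_mul]; exact mul_ne_zero ha₁ ha₂,
          algebraMap A B a₂ * b₁ + algebraMap A B a₁ * b₂, ?_⟩
        rw [map_add, map_mul, map_mul, map_mul, ← e₁, ← e₂, ← IsScalarTower.algebraMap_apply,
          ← IsScalarTower.algebraMap_apply]
        ring
    obtain ⟨a, ha, b, hb⟩ := hclear c
    have hb' : b ∉ q.asIdeal := by
      rw [← hQ, Ideal.mem_comap, ← hb]
      refine fun h' => (Q.2.mem_or_mem h').elim (fun h'' => ?_) hc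
      refine Q.2.ne_top (Ideal.eq_top_of_isUnit_mem _ h'' ?_)
      rw [show algebraMap A C a = (Algebra.TensorProduct.includeRight : k →ₐ[A] C) (algebraMap A k a) from
        (AlgHom.commutes _ a).symm]
      exact (isUnit_iff_ne_zero.2 ha).map _
    have hy' : (df P (i - 1) i).lTensor C (E _ (algebraMap A C a • y)) = b • x := by
      rw [← hd, map_smul, hy, smul_smul, hb, hEs, AddEquiv.apply_symm_apply, algebraMap_smul]
    exact ⟨b, hb', fibreEquiv k _ (E _ (algebraMap A C a • y)), by rw [← fibreEquiv_natural, hy', map_smul]⟩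
  · obtain ⟨s, hs, y, hy⟩ := h (fibreEquiv k _ (E i x)) (by
      rw [← fibreEquiv_natural, ← hd, hx, map_zero, map_zero])
    refine ⟨algebraMap B C s, fun h' => hs (hQ ▸ h'), (E _).symm ((fibreEquiv k _).symm y), ?_⟩
    apply (E i).injective
    rw [hd, AddEquiv.apply_symm_apply, hEs, algebraMap_smul]
    apply (fibreEquiv k _).injective
    rw [fibreEquiv_natural, LinearEquiv.apply_symm_apply, hy, map_smul]

theorem tensor_zero_left {P : Type u} [AddCommGroup P] [Module A P] [Subsingleton P] {N : Type u} [AddCommGroup N]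
    [Module A N] (x : P ⊗[A] N) : x = 0 := by
  induction x using TensorProduct.induction_on with
  | zero => rfl
  | tmul p n => rw [Subsingleton.elim p 0, TensorProduct.zero_tmul]
  | add a b ha hb => rw [ha, hb, add_zero]

theorem exAt_of_eq {P : DRing.Cx B} {a a' j b b' : ℤ} (ha : a = a') (hb : b = b') {q : Ideal B}
    {N : Type u} [AddCommGroup N] [Module A N] (h : ExAt A (df P a j) (df P j b) q N) :
    ExAt A (df P a' j) (df P j b') q N := by
  subst ha hb
  exact h

section Consequences

variable [IsNoetherianRing A] [IsNoetherianRing B] [Module.Flat A B] (hk : IsFrac A k) {P : DRing.Cx B}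
  (hP : DRing.TermwiseFiniteFree P) (q : PrimeSpectrum B)
  (hp : q.asIdeal.comap (algebraMap A B) = RingHom.ker (algebraMap A k))

include hP in
theorem flat_term (j : ℤ) : Module.Flat A (P.X j) :=
  haveI := (hP j).2
  Module.Flat.trans A B (P.X j)

include hP hk hp in
/-- A degree absent from the fibre is absent at `q`. -/
theorem notMem_support_of_fibre (i : ℤ) (h : ExI A P i q.asIdeal k) :
    q ∉ Module.support B (Dual.HD B (DRing.toD P) i) := by
  haveI := flat_term (A := A) hP i
  haveI := flat_term (A := A) hP (i + 1)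
  haveI := (hP i).1
  exact (notMem_support_iff P i q).2 (exAt_self_iff.1 (exAt_of_fibre (df_comp P _ _ _) hk hp h A))

include hP hk hp in
/-- The converse, from the top. -/
theorem exI_fibre_of_above {b : ℤ} (hb : DRing.VanishesAbove P b) (i : ℤ)
    (h : ∀ j, i ≤ j → q ∉ Module.support B (Dual.HD B (DRing.toD P) j)) : ExI A P i q.asIdeal k := by
  haveI := flat_term (A := A) hP (i + 1)
  suffices H : ∀ (r : ℕ) (j : ℤ), i ≤ j → b + 1 ≤ j + r →
      ∀ (N : Type u) [AddCommGroup N] [Module A N] [Module.Finite A N], ExI A P j q.asIdeal N from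
    exAt_fibre hk hp (H (b + 1 - i).toNat i le_rfl (by omega) _)
  intro r
  induction r with
  | zero =>
    intro j _ hj N _ _ _ x _
    refine ⟨1, q.2.ne_top ∘ (Ideal.eq_top_iff_one _).2, 0, ?_⟩
    haveI := ModuleCat.subsingleton_of_isZero (hb j (by omega))
    rw [map_zero, one_smul]
    exact (tensor_zero_left x).symm
  | succ r ih =>
    intro j hij hj N _ _ _
    haveI := flat_term (A := A) hP (j + 1)
    haveI := flat_term (A := A) hP (j + 1 + 1)
    refine exAt_of_succ (h := df P (j + 1) (j + 1 + 1)) (df_comp P _ _ _) (df_comp P _ _ _)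
      (fun N' _ _ _ => ?_) (exAt_self_iff.2 ((notMem_support_iff P j q).1 (h j hij))) N
    exact exAt_of_eq (by ring) rfl (ih (j + 1) (by omega) (by omega) N')

include hP hk hp in
/-- The only surviving degree is flat. -/
theorem flat_homology (c : ℤ) (h : ∀ j, j ≠ c → ExI A P j q.asIdeal k) :
    Module.Flat A (LocalizedModule q.asIdeal.primeCompl
      (LinearMap.ker ((LinearMap.range (df P (c - 1) c)).liftQ (df P c (c + 1))
        (LinearMap.range_le_ker_iff.2 (df_comp P (c - 1) c (c + 1)))))) := by
  haveI := fun j => flat_term (A := A) hP j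
  haveI := fun j => (hP j).1
  have hlo : ExAt A (df P (c - 1 - 1) (c - 1)) (df P (c - 1) c) q.asIdeal k :=
    exAt_of_eq rfl (by ring) (h (c - 1) (by omega))
  have hhi : ExAt A (df P c (c + 1)) (df P (c + 1) (c + 1 + 1)) q.asIdeal k :=
    exAt_of_eq (by ring) rfl (h (c + 1) (by omega))
  exact flat_localized_homology (df P (c - 1 - 1) (c - 1)) (df P (c - 1) c) (df P c (c + 1))
    (df P (c + 1) (c + 1 + 1)) (df_comp P _ _ _) (df_comp P _ _ _) (df_comp P _ _ _) hk hp hlo hhi

end Consequences

end Groth.Agent.LeadBrown.Rel
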