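import Groth.Agent.LeadBrown.Rel.FibreExact
import Mathlib.RingTheory.Flat.Localization
import Mathlib.RingTheory.Localization.BaseChange
import Mathlib.Algebra.Module.LocalizedModule.Submodule
import Mathlib.Algebra.Module.LocalizedModule.Exact
import Mathlib.RingTheory.Flat.Equalizer
import Mathlib.RingTheory.LocalRing.Module

/-!
# Flatness at `q` of the homology in the only non-exact degree
-/

set_option autoImplicit false
set_option linter.unusedSectionVars false
set_option linter.style.haveILetI false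
set_option maxHeartbeats 2000000

universe u

open TensorProduct

namespace Groth.Agent.LeadBrown.Rel

/-- The kernel of a surjection between flat modules is flat. -/
theorem flat_ker' {R S T : Type u} [CommRing R] [AddCommGroup S] [Module R S] [AddCommGroup T] [Module R T]
    [Module.Flat R S] [Module.Flat R T] (f : S →ₗ[R] T) (hf : Function.Surjective f) :
    Module.Flat R (LinearMap.ker f) := by
  have hl : ∀ (N : Type u) [AddCommGroup N] [Module R N],
      Function.Injective ((LinearMap.ker f).subtype.rTensor N) := by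
    intro N _ _
    rw [← LinearMap.lTensor_inj_iff_rTensor_inj]
    let π : (N →₀ R) →ₗ[R] N := Finsupp.linearCombination R id
    have hπ : Function.Surjective π := fun q => ⟨Finsupp.single q 1, by simp [π]⟩
    exact lTensor_injective_of_exact_of_exact_of_rTensor_injective (R := R)
      (M₁ := ↥(LinearMap.ker π)) (M₂ := N →₀ R) (M₃ := N) (N₁ := ↥(LinearMap.ker f)) (N₂ := S) (N₃ := T)
      (f₁ := (LinearMap.ker π).subtype) (f₂ := π) (g₁ := (LinearMap.ker f).subtype) (g₂ := f)
      π.exact_subtype_ker_map hπ f.exact_subtype_ker_map hf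
      (Module.Flat.rTensor_preserves_injective_linearMap _ (LinearMap.ker π).subtype_injective)
      (Module.Flat.lTensor_preserves_injective_linearMap _ (LinearMap.ker f).subtype_injective)
  refine Module.Flat.iff_lTensor_preserves_injective_linearMap.2 fun N N' _ _ _ _ g hg => ?_
  refine Function.Injective.of_comp (f := (LinearMap.ker f).subtype.rTensor N') ?_
  rw [← LinearMap.coe_comp, LinearMap.rTensor_comp_lTensor, ← LinearMap.lTensor_comp_rTensor, LinearMap.coe_comp]
  exact (Module.Flat.lTensor_preserves_injective_linearMap g hg).comp (hl N)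

variable {A B : Type u} [CommRing A] [CommRing B] [Algebra A B]
  {P₀ P₁ P₂ : Type u} [AddCommGroup P₀] [AddCommGroup P₁] [AddCommGroup P₂]
  [Module A P₀] [Module B P₀] [IsScalarTower A B P₀]
  [Module A P₁] [Module B P₁] [IsScalarTower A B P₁]
  [Module A P₂] [Module B P₂] [IsScalarTower A B P₂]
  {f : P₀ →ₗ[B] P₁} {g : P₁ →ₗ[B] P₂} {q : Ideal B} [q.IsPrime]

/-- Exactness at `q` with coefficients in `A` is exactness at `q`. -/
theorem exAt_self_iff : ExAt A f g q A ↔ ∀ x : P₁, g x = 0 → ∃ s ∉ q, s • x ∈ LinearMap.range f := by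
  have h₀ : ∀ {P P' : Type u} [AddCommGroup P] [AddCommGroup P'] [Module A P] [Module B P] [IsScalarTower A B P]
      [Module A P'] [Module B P'] [IsScalarTower A B P'] (φ : P →ₗ[B] P') (x : P ⊗[A] A),
      φ (AlgebraTensorModule.rid A B P x) = AlgebraTensorModule.rid A B P' (tn φ A x) := by
    intro P P' _ _ _ _ _ _ _ _ φ x
    induction x using TensorProduct.induction_on with
    | zero => simp
    | tmul p a => simp [LinearMap.map_smul_of_tower]
    | add a b ha hb => simp only [map_add, ha, hb]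
  let e₀ := AlgebraTensorModule.rid A B P₀
  let e₁ := AlgebraTensorModule.rid A B P₁
  let e₂ := AlgebraTensorModule.rid A B P₂
  refine ⟨fun h x hx => ?_, fun h x hx => ?_⟩
  · obtain ⟨s, hs, y, hy⟩ := h (e₁.symm x) (e₂.injective (by rw [← h₀, e₁.apply_symm_apply, hx, map_zero]))
    exact ⟨s, hs, e₀ y, by rw [h₀, hy, map_smul, e₁.apply_symm_apply]⟩
  · obtain ⟨s, hs, y, hy⟩ := h (e₁ x) (by rw [h₀, hx, map_zero])
    exact ⟨s, hs, e₀.symm y, e₁.injective (by rw [← h₀, e₀.apply_symm_apply, hy, map_smul])⟩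

/-- The cokernel is flat at `q`. -/
theorem flat_localized_coker [IsNoetherianRing A] [IsNoetherianRing B] [Module.Flat A P₁] [Module.Flat A P₂]
    [Module.Finite B P₁] (hgf : g ∘ₗ f = 0) {k : Type u} [Field k] [Algebra A k] (hk : IsFrac A k)
    (hp : q.comap (algebraMap A B) = RingHom.ker (algebraMap A k)) (h : ExAt A f g q k) :
    Module.Flat A (LocalizedModule q.primeCompl (P₂ ⧸ LinearMap.range g)) := by
  let C := P₂ ⧸ LinearMap.range g
  let π : P₂ →ₗ[B] C := (LinearMap.range g).mkQ
  let ℓ := LocalizedModule.mkLinearMap q.primeCompl C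
  refine Module.Flat.iff_lTensor_injective.2 fun I _ => ?_
  let rI := AlgebraTensorModule.rTensor A I ℓ
  let rA := AlgebraTensorModule.rTensor A A ℓ
  rw [← AlgebraTensorModule.coe_lTensor (A := B), ← IsLocalizedModule.map_lTensor B q.primeCompl I.subtype ℓ]
  refine (injective_iff_map_eq_zero _).2 fun w hw => ?_
  obtain ⟨⟨z, s⟩, rfl⟩ := IsLocalizedModule.mk'_surjective q.primeCompl rI w
  simp only [Function.uncurry_apply_pair] at hw ⊢
  rw [IsLocalizedModule.map_mk', IsLocalizedModule.mk'_eq_zero'] at hw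
  obtain ⟨t, ht⟩ := hw
  obtain ⟨z, rfl⟩ : ∃ z', (π.restrictScalars A).rTensor I z' = z :=
    LinearMap.rTensor_surjective _ (Submodule.mkQ_surjective _) z
  have hexA : Function.Exact ((g.restrictScalars A).rTensor A) ((π.restrictScalars A).rTensor A) :=
    rTensor_exact A (LinearMap.exact_map_mkQ_range g) (Submodule.mkQ_surjective _)
  have hπs : ∀ {N : Type u} [AddCommGroup N] [Module A N] (b : B) (x : P₂ ⊗[A] N),
      (π.restrictScalars A).rTensor N (b • x) = b • (π.restrictScalars A).rTensor N x := fun {N} _ _ b x => by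
    induction x using TensorProduct.induction_on with
    | zero => simp
    | tmul p n => simp [TensorProduct.smul_tmul']
    | add a c ha hc => simp only [smul_add, map_add, ha, hc]
  have hmem : I.subtype.lTensor P₂ ((t : B) • z) ∈ LinearMap.range (tn g A) := by
    obtain ⟨y, hy⟩ := (hexA (I.subtype.lTensor P₂ ((t : B) • z))).1 (by
      rw [← LinearMap.comp_apply, LinearMap.rTensor_comp_lTensor, ← LinearMap.lTensor_comp_rTensor,
        LinearMap.comp_apply, hπs, lTensor_smul]
      exact ht)
    exact ⟨y, hy⟩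
  obtain ⟨r, hr, y, hy⟩ := cokernel_flat_at hgf hk hp h I ((t : B) • z) hmem
  refine (IsLocalizedModule.mk'_eq_zero' rI s).2 ⟨⟨r, hr⟩ * t, ?_⟩
  rw [Submonoid.smul_def, Submonoid.coe_mul, mul_smul, ← hπs, ← hπs, ← hy]
  have hzero : ∀ y : P₁ ⊗[A] I, (π.restrictScalars A).rTensor I (tn g I y) = 0 := fun y => by
    induction y using TensorProduct.induction_on with
    | zero => simp
    | tmul p n =>
      have h0 : π (g p) = 0 := (Submodule.Quotient.mk_eq_zero _).2 (LinearMap.mem_range_self g p)
      simp [h0]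
    | add a c ha hc => simp only [map_add, ha, hc, add_zero]
  exact hzero y

/-- Flatness at `q` of a finite-stage kernel. -/
theorem flat_ker_localized {M N : Type u} [AddCommGroup M] [Module A M] [Module B M] [IsScalarTower A B M]
    [AddCommGroup N] [Module A N] [Module B N] [IsScalarTower A B N] (φ : M →ₗ[B] N)
    [Module.Flat A M] [Module.Flat A (LinearMap.range φ)] : Module.Flat A (LinearMap.ker φ) := by
  have h := flat_ker' ((φ.rangeRestrict).restrictScalars A) φ.surjective_rangeRestrict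
  exact Module.Flat.of_linearEquiv
    ({ toFun := fun x => ⟨x.1, by simp [Subtype.ext_iff, LinearMap.mem_ker.1 x.2]⟩
       invFun := fun x => ⟨x.1, by simpa [Subtype.ext_iff] using x.2⟩
       map_add' := fun _ _ => rfl
       map_smul' := fun _ _ => rfl
       left_inv := fun _ => rfl
       right_inv := fun _ => rfl } :
      LinearMap.ker φ ≃ₗ[A] LinearMap.ker ((φ.rangeRestrict).restrictScalars A))

/-- The homology at the only degree where the fibre is not exact is flat at `q`. -/
theorem flat_localized_homology [IsNoetherianRing A] [IsNoetherianRing B]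
    {Q₀ Q₁ Q₂ Q₃ Q₄ : Type u} [AddCommGroup Q₀] [AddCommGroup Q₁] [AddCommGroup Q₂] [AddCommGroup Q₃]
    [AddCommGroup Q₄] [Module A Q₀] [Module B Q₀] [IsScalarTower A B Q₀] [Module A Q₁] [Module B Q₁]
    [IsScalarTower A B Q₁] [Module A Q₂] [Module B Q₂] [IsScalarTower A B Q₂] [Module A Q₃] [Module B Q₃]
    [IsScalarTower A B Q₃] [Module A Q₄] [Module B Q₄] [IsScalarTower A B Q₄]
    [Module.Flat A Q₁] [Module.Flat A Q₂] [Module.Flat A Q₃] [Module.Flat A Q₄]
    [Module.Finite B Q₁] [Module.Finite B Q₃]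
    (d₀ : Q₀ →ₗ[B] Q₁) (d₁ : Q₁ →ₗ[B] Q₂) (d₂ : Q₂ →ₗ[B] Q₃) (d₃ : Q₃ →ₗ[B] Q₄)
    (h₁₀ : d₁ ∘ₗ d₀ = 0) (h₂₁ : d₂ ∘ₗ d₁ = 0) (h₃₂ : d₃ ∘ₗ d₂ = 0)
    {k : Type u} [Field k] [Algebra A k] (hk : IsFrac A k)
    (hp : q.comap (algebraMap A B) = RingHom.ker (algebraMap A k))
    (hlo : ExAt A d₀ d₁ q k) (hhi : ExAt A d₂ d₃ q k) :
    Module.Flat A (LocalizedModule q.primeCompl
      (LinearMap.ker ((LinearMap.range d₁).liftQ d₂ (LinearMap.range_le_ker_iff.2 h₂₁)))) := by
  let C₂ := Q₂ ⧸ LinearMap.range d₁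
  let C₄ := Q₄ ⧸ LinearMap.range d₃
  let δ : C₂ →ₗ[B] Q₃ := (LinearMap.range d₁).liftQ d₂ (LinearMap.range_le_ker_iff.2 h₂₁)
  haveI : Module.Flat A (LocalizedModule q.primeCompl C₂) := flat_localized_coker h₁₀ hk hp hlo
  haveI : Module.Flat A (LocalizedModule q.primeCompl C₄) := flat_localized_coker h₃₂ hk hp hhi
  let ℓ : ∀ (M : Type u) [AddCommGroup M] [Module B M], M →ₗ[B] LocalizedModule q.primeCompl M :=
    fun M _ _ => LocalizedModule.mkLinearMap q.primeCompl M
  haveI hflat : ∀ (M : Type u) [AddCommGroup M] [Module A M] [Module B M] [IsScalarTower A B M] [Module.Flat A M],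
      Module.Flat A (LocalizedModule q.primeCompl M) := fun M _ _ _ _ _ => by
    refine Module.Flat.iff_lTensor_injective.2 fun I _ => ?_
    rw [← AlgebraTensorModule.coe_lTensor (A := B),
      ← IsLocalizedModule.map_lTensor B q.primeCompl I.subtype (ℓ M)]
    exact IsLocalizedModule.map_injective _ _ _ _ (Module.Flat.lTensor_preserves_injective_linearMap _ Subtype.val_injective)
  haveI := hflat Q₃
  haveI := hflat Q₄
  let δq := IsLocalizedModule.map q.primeCompl (ℓ C₂) (ℓ Q₃) δ
  let d₃q := IsLocalizedModule.map q.primeCompl (ℓ Q₃) (ℓ Q₄) d₃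
  let πq := IsLocalizedModule.map q.primeCompl (ℓ Q₄) (ℓ C₄) (LinearMap.range d₃).mkQ
  have hπd : Function.Exact d₃q πq :=
    IsLocalizedModule.map_exact q.primeCompl _ _ _ _ _ (LinearMap.exact_map_mkQ_range d₃)
  have hπ : Function.Surjective πq :=
    IsLocalizedModule.map_surjective q.primeCompl _ _ _ (Submodule.mkQ_surjective _)
  haveI : Module.Flat A (LinearMap.range d₃q) := by
    haveI : Module.Flat A (LinearMap.range πq) :=
      Module.Flat.of_linearEquiv ((LinearEquiv.ofTop _ (LinearMap.range_eq_top.2 hπ)).restrictScalars A)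
    haveI := flat_ker_localized (A := A) πq
    exact Module.Flat.of_linearEquiv ((LinearEquiv.ofEq _ _ hπd.linearMap_ker_eq.symm).restrictScalars A)
  haveI := flat_ker_localized (A := A) d₃q
  -- exactness of `δ`, `d₃` at `q`
  have hex : LinearMap.range δq = LinearMap.ker d₃q := by
    refine le_antisymm ?_ fun w hw => ?_
    · rintro _ ⟨w, rfl⟩
      obtain ⟨⟨m, s⟩, rfl⟩ := IsLocalizedModule.mk'_surjective q.primeCompl (ℓ C₂) w
      rw [LinearMap.mem_ker, Function.uncurry_apply_pair, IsLocalizedModule.map_mk', IsLocalizedModule.map_mk']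
      obtain ⟨m, rfl⟩ := Submodule.mkQ_surjective _ m
      rw [show d₃ (δ ((LinearMap.range d₁).mkQ m)) = 0 from LinearMap.congr_fun h₃₂ m, IsLocalizedModule.mk'_zero]
    · obtain ⟨⟨m, s⟩, rfl⟩ := IsLocalizedModule.mk'_surjective q.primeCompl (ℓ Q₃) w
      rw [LinearMap.mem_ker, Function.uncurry_apply_pair, IsLocalizedModule.map_mk',
        IsLocalizedModule.mk'_eq_zero'] at hw
      obtain ⟨t, ht⟩ := hw
      obtain ⟨r, hr, y, hy⟩ := exAt_self_iff.1 (exAt_of_fibre h₃₂ hk hp hhi A) ((t : B) • m)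
        (by rw [map_smul]; exact ht)
      refine ⟨IsLocalizedModule.mk' (ℓ C₂) ((LinearMap.range d₁).mkQ y) (⟨r, hr⟩ * t * s), ?_⟩
      rw [IsLocalizedModule.map_mk', show δ ((LinearMap.range d₁).mkQ y) = d₂ y from rfl, hy,
        Function.uncurry_apply_pair, ← mul_smul]
      exact IsLocalizedModule.mk'_cancel_left (ℓ Q₃) m (⟨r, hr⟩ * t) s
  haveI : Module.Flat A (LinearMap.range δq) :=
    Module.Flat.of_linearEquiv ((LinearEquiv.ofEq _ _ hex).restrictScalars A)
  haveI : Module.Flat A (LocalizedModule q.primeCompl C₂) := ‹_›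
  haveI := flat_ker_localized (A := A) δq
  haveI := LinearMap.toKerLocalized_isLocalizedModule (Localization q.primeCompl) q.primeCompl (ℓ C₂) (ℓ Q₃) δ
  exact Module.Flat.of_linearEquiv ((IsLocalizedModule.linearEquiv q.primeCompl (ℓ (LinearMap.ker δ))
    (LinearMap.toKerIsLocalized q.primeCompl (ℓ C₂) (ℓ Q₃) δ)).restrictScalars A)

end Groth.Agent.LeadBrown.Rel
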